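/-
Elements of order three of an orthogonal group in dimension eight over GF(3): at most two Siegel pieces.
-/
import Cfsg.Agent.Lib.Omega7.Std

set_option autoImplicit false

namespace Cfsg.Agent.Omega8Plus

open QuadraticMap Module Cfsg.Agent.Orth Cfsg.Agent.Omega7

variable {V : Type*} [AddCommGroup V] [Module K V] {Q : QuadraticForm K V}

/-- triangular pairing gives independence -/
theorem li_dual {n : ℕ} (f d : Fin n → V) (h0 : ∀ i j, j < i → polar Q (f i) (d j) = 0)
    (h1 : ∀ i, polar Q (f i) (d i) ≠ 0) : LinearIndependent K f := by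
  rw [Fintype.linearIndependent_iff]
  intro g hg i
  induction i using WellFoundedLT.induction with
  | _ i ih =>
    have h := congrArg (fun v => polar Q v (d i)) hg
    simp only [b_sum, b_zero_left] at h
    rw [Finset.sum_eq_single i (fun j _ hj => ?_) (fun hi => absurd (Finset.mem_univ i) hi)] at h
    · exact (mul_eq_zero.1 h).resolve_right (h1 i)
    · rcases lt_or_gt_of_ne hj with hlt | hgt
      · rw [ih j hlt, zero_mul]
      · rw [h0 j i hgt, mul_zero]

/-- vectors orthogonal to an isotropic family -/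
theorem iso_bound [FiniteDimensional K V] (hQ : (polarBilin Q).Nondegenerate) {n : ℕ} (f : Fin n → V)
    (S : Finset (Fin n)) (li : LinearIndependent K f) (h : ∀ i, ∀ j ∈ S, polar Q (f i) (f j) = 0) :
    S.card + n ≤ finrank K V := by
  set T := Submodule.span K (Set.range f) with hT
  set W := Submodule.span K (Set.range fun j : S => f j) with hW
  have hinj : Function.Injective (polarBilin Q) := by
    rw [← LinearMap.ker_eq_bot, LinearMap.ker_eq_bot']
    exact fun x hx => eq_zero_of_b hQ fun y => LinearMap.congr_fun hx y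
  have hle : T.map (polarBilin Q) ≤ W.dualAnnihilator := by
    rintro _ ⟨y, hy, rfl⟩
    rw [Submodule.mem_dualAnnihilator]
    intro x hx
    show polar Q y x = 0
    induction hx using Submodule.span_induction with
    | mem z hz =>
      obtain ⟨⟨j, hj⟩, rfl⟩ := hz
      induction hy using Submodule.span_induction with
      | mem a ha => obtain ⟨i, rfl⟩ := ha; exact h i j hj
      | zero => exact b_zero_left _
      | add a c _ _ ha hc => rw [b_add_left, ha, hc, add_zero]
      | smul t a _ ha => rw [b_smul_left, ha, mul_zero]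
    | zero => exact b_zero_right _
    | add a c _ _ ha hc => rw [b_add_right, ha, hc, add_zero]
    | smul t a _ ha => rw [b_smul_right, ha, mul_zero]
  have h1 := Submodule.finrank_mono hle
  rw [← LinearEquiv.finrank_eq (Submodule.equivMapOfInjective (polarBilin Q) hinj T), hT,
    finrank_span_eq_card li, Fintype.card_fin] at h1
  have h1' : n ≤ finrank K W.dualAnnihilator := h1
  have h2 := Subspace.finrank_add_finrank_dualAnnihilator_eq W
  have h3 : finrank K W = S.card := by
    rw [hW, show (fun j : S => f j) = f ∘ Subtype.val from rfl,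
      finrank_span_eq_card (li.comp _ Subtype.val_injective), Fintype.card_coe]
  omega

/-- the data of one split piece with `N² = 0` -/
structure Piece (Q : QuadraticForm K V) (N M : V →ₗ[K] V) (a c : V) : Prop where
  qa : Q (N a) = 0
  qc : Q (N c) = 0
  ac : polar Q (N a) (N c) = 0
  aa : polar Q (N a) a = 0
  cc : polar Q (N c) c = 0
  pac : polar Q (N a) c = 1
  pca : polar Q (N c) a = -1
  good : Good Q M
  sq : ∀ z, M (M z) = 0
  form : ∀ z, N z = sg Q (N a) (N c) z + M z
  perp : ∀ z, polar Q (M z) a = 0 ∧ polar Q (M z) c = 0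
  mem : ∀ z, ∃ z', M z = N z'

theorem exists_piece (hQ : (polarBilin Q).Nondegenerate) {N : V →ₗ[K] V} (hN : Good Q N)
    (h2 : ∀ x, N (N x) = 0) (hne : ∃ x, N x ≠ 0) : ∃ a c M, Piece Q N M a c := by
  have hnn : ∀ x y, polar Q (N x) (N y) = 0 := fun x y => by
    have h := hN.psi x y
    rw [h2, b_zero_left] at h
    linear_combination h
  have hsk : ∀ x y, polar Q (N x) y = - polar Q x (N y) := fun x y => by
    have h := hN.star x y
    rw [hnn] at h
    linear_combination h
  have hqn : ∀ x, Q (N x) = 0 := fun x => by rw [q_eq, hnn, neg_zero]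
  have hself : ∀ x, polar Q (N x) x = 0 := fun x => by
    rw [b_comm]; linear_combination hN.starQ x - hqn x
  obtain ⟨a, ha⟩ := hne
  obtain ⟨c₀, hc₀⟩ : ∃ c, polar Q (N a) c ≠ 0 := by
    by_contra h
    simp only [not_exists, not_not] at h
    exact ha (eq_zero_of_b hQ h)
  set c := polar Q (N a) c₀ • c₀ with hc
  have hac : polar Q (N a) c = 1 := by
    rw [hc, b_smul_right]
    have : ∀ t : K, t ≠ 0 → t * t = 1 := by decide
    exact this _ hc₀
  have hca : polar Q (N c) a = -1 := by rw [hsk, b_comm, hac]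
  let M : V →ₗ[K] V :=
    { toFun := fun z => N z - (polar Q z (N a) • N c - polar Q z (N c) • N a)
      map_add' := fun p r => by simp only [map_add, b_add_left]; module
      map_smul' := fun t p => by simp only [map_smul, b_smul_left, RingHom.id_apply]; module }
  have hM : ∀ z, M z = N z - (polar Q z (N a) • N c - polar Q z (N c) • N a) := fun z => rfl
  have hMN : ∀ v w, polar Q (M v) (N w) = 0 := fun v w => by
    simp only [hM, b_sub_left, b_smul_left, hnn]; ring
  have hMM : ∀ v w, polar Q (M v) (M w) = 0 := fun v w => by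
    rw [hM w]
    simp only [b_sub_right, b_smul_right, hMN]; ring
  have hqM : ∀ v, Q (M v) = 0 := fun v => by rw [q_eq, hMM, neg_zero]
  have skew : ∀ v w, polar Q (M v) w = - polar Q v (M w) := fun v w => by
    simp only [hM, b_sub_left, b_sub_right, b_smul_left, b_smul_right]
    rw [hsk v w, b_comm (N c) w, b_comm (N a) w]
    ring
  have self : ∀ v, polar Q (M v) v = 0 := fun v => by
    simp only [hM, b_sub_left, b_smul_left]
    rw [hself, b_comm (N c) v, b_comm (N a) v]
    ring
  have sq : ∀ v, M (M v) = 0 := fun v => by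
    rw [hM (M v), hMN, hMN, hM v]
    simp only [map_sub, map_smul, h2, smul_zero, sub_zero, zero_smul]
  have Ma : M a = 0 := by
    rw [hM, b_comm a, hself, b_comm a, hca, zero_smul, zero_sub, neg_one_smul, neg_neg, sub_self]
  have Mc : M c = 0 := by
    rw [hM, b_comm c, hac, b_comm c, hself, zero_smul, sub_zero, one_smul, sub_self]
  refine ⟨a, c, M, hqn a, hqn c, hnn a c, hself a, hself c, hac, hca,
    ⟨fun x => sq (M x), fun x y => ?_, fun x => ?_⟩, sq, fun z => ?_, fun z => ?_, fun z => ?_⟩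
  · rw [hMM, skew]; ring
  · rw [hqM, b_comm, self]; ring
  · simp only [hM, sg, hqn, zero_mul, add_zero]; abel
  · exact ⟨by rw [skew, Ma, b_zero_right, neg_zero], by rw [skew, Mc, b_zero_right, neg_zero]⟩
  · exact ⟨z - (polar Q z (N a) • c - polar Q z (N c) • a), by simp only [hM, map_sub, map_smul]⟩

theorem li2_of {u y : V} (li : LinearIndependent K ![u, y]) (s t : K) (h : s • u + t • y = 0) :
    s = 0 ∧ t = 0 := by
  have := Fintype.linearIndependent_iff.1 li ![s, t] (by simpa [Fin.sum_univ_two] using h)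
  exact ⟨this 0, this 1⟩

theorem li4_of {u y v w : V} (li : LinearIndependent K ![u, y, v, w]) (r s t p : K)
    (h : r • u + s • y + t • v + p • w = 0) : r = 0 ∧ s = 0 ∧ t = 0 ∧ p = 0 := by
  have := Fintype.linearIndependent_iff.1 li ![r, s, t, p] (by simpa [Fin.sum_univ_four] using h)
  exact ⟨this 0, this 1, this 2, this 3⟩

/-- the possible norms of two pieces -/
def PairCase (qy qw : K) : Prop :=
  (qy = 0 ∧ qw = 0) ∨ (qy = 1 ∧ qw = 0) ∨ (qy = -1 ∧ qw = 0) ∨ (qy = 1 ∧ qw = -1) ∨ (qy = -1 ∧ qw = -1)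

/-- one or two pieces -/
def Pieces (Q : QuadraticForm K V) (N : V →ₗ[K] V) : Prop :=
  (∃ u y, Q u = 0 ∧ polar Q u y = 0 ∧ (∀ s t : K, s • u + t • y = 0 → s = 0 ∧ t = 0) ∧
      ∀ z, N z = sg Q u y z) ∨
    ∃ u y v w qy qw, PairCase qy qw ∧ Gram Q u y v w qy qw ∧
      (∀ r s t p : K, r • u + s • y + t • v + p • w = 0 → r = 0 ∧ s = 0 ∧ t = 0 ∧ p = 0) ∧
      ∀ z, N z = sg Q u y z + sg Q v w z

theorem pieces_sq [FiniteDimensional K V] (hQ : (polarBilin Q).Nondegenerate) (hdim : finrank K V = 8)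
    {N : V →ₗ[K] V} (hN : Good Q N) (h2 : ∀ x, N (N x) = 0) (hne : ∃ x, N x ≠ 0) : Pieces Q N := by
  have hnn : ∀ x y, polar Q (N x) (N y) = 0 := fun x y => by
    have h := hN.psi x y
    rw [h2, b_zero_left] at h
    linear_combination h
  obtain ⟨a, c, M, P⟩ := exists_piece hQ hN h2 hne
  have nd : (-1 : K) ≠ 0 := by decide
  by_cases hM : ∃ z, M z ≠ 0
  swap
  · simp only [not_exists, not_not] at hM
    refine Or.inl ⟨N a, N c, P.qa, P.ac, li2_of (li_dual (Q := Q) _ ![c, a] ?_ ?_), fun z => by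
      rw [P.form, hM, add_zero]⟩
    · intro i j hij
      fin_cases i <;> fin_cases j <;> simp_all [P.cc]
    · intro i
      fin_cases i <;> simp [P.pac, P.pca]
  obtain ⟨a', c', M', P'⟩ := exists_piece hQ P.good P.sq hM
  have hMN : ∀ z z', polar Q (M z) (N z') = 0 := fun z z' => by
    obtain ⟨w, hw⟩ := P.mem z
    rw [hw, hnn]
  by_cases hM' : ∃ z, M' z ≠ 0
  · exfalso
    obtain ⟨a'', c'', M'', P''⟩ := exists_piece hQ P'.good P'.sq hM'
    have mem : ∀ z, ∃ z', M' z = N z' := fun z => by
      obtain ⟨w, hw⟩ := P'.mem z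
      obtain ⟨w', hw'⟩ := P.mem w
      exact ⟨w', hw.trans hw'⟩
    have perp : ∀ z, polar Q (M' z) a = 0 ∧ polar Q (M' z) c = 0 := fun z => by
      obtain ⟨w, hw⟩ := P'.mem z
      rw [hw]; exact P.perp w
    have li : LinearIndependent K ![N a, N c, M a', M c', M' a'', M' c''] := by
      refine li_dual (Q := Q) _ ![c, a, c', a', c'', a''] ?_ ?_
      · intro i j hij
        fin_cases i <;> fin_cases j <;> simp_all [P.cc, P'.cc, P''.cc, P.perp, P'.perp]
      · intro i
        fin_cases i <;> simp [P.pac, P.pca, P'.pac, P'.pca, P''.pac, P''.pca]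
    have := iso_bound hQ _ Finset.univ li (by
      have hmem : ∀ i, ∃ z, ![N a, N c, M a', M c', M' a'', M' c''] i = N z := by
        intro i
        fin_cases i
        · exact ⟨a, rfl⟩
        · exact ⟨c, rfl⟩
        · exact P.mem a'
        · exact P.mem c'
        · exact mem a''
        · exact mem c''
      intro i j _
      obtain ⟨z, hz⟩ := hmem i
      obtain ⟨z', hz'⟩ := hmem j
      rw [hz, hz', hnn])
    rw [hdim, Finset.card_univ, Fintype.card_fin] at this
    omega
  simp only [not_exists, not_not] at hM'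
  refine Or.inr ⟨N a, N c, M a', M c', 0, 0, Or.inl ⟨rfl, rfl⟩,
    ⟨P.qa, P'.qa, P.qc, P'.qc, P.ac, by rw [b_comm]; exact hMN _ _, by rw [b_comm]; exact hMN _ _,
      by rw [b_comm]; exact hMN _ _, by rw [b_comm]; exact hMN _ _, P'.ac⟩,
    li4_of (li_dual (Q := Q) _ ![c, a, c', a'] ?_ ?_), fun z => by
      rw [P.form, P'.form, hM', add_zero]⟩
  · intro i j hij
    fin_cases i <;> fin_cases j <;> simp_all [P.cc, P'.cc, P.perp, P'.perp]
  · intro i
    fin_cases i <;> simp [P.pac, P.pca, P'.pac, P'.pca]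

theorem classify [FiniteDimensional K V] (hQ : (polarBilin Q).Nondegenerate) (hdim : finrank K V = 8)
    {N : V →ₗ[K] V} (hN : Good Q N) (hne : ∃ x, N x ≠ 0) : Pieces Q N := by
  by_cases h2 : ∃ x, N (N x) ≠ 0
  swap
  · simp only [not_exists, not_not] at h2
    exact pieces_sq hQ hdim hN h2 hne
  obtain ⟨x, d, hq, hd, hd0⟩ := hN.exists_block hQ h2
  obtain ⟨xx, xn, nn, qn, xn1, nx, n12, q2⟩ := hN.block hq hd
  obtain ⟨N₁, hN₁, hsplit, k0, k1, k2, hperp⟩ := hN.peel hq hd hd0
  have dd : ∀ c : K, c ≠ 0 → c * c = 1 := by decide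
  have two : (2 : K) ≠ 0 := by decide
  set u := d • N (N x) with hu
  set y := N x with hy
  have hqu : Q u = 0 := by rw [hu, q_smul, q2, mul_zero]
  have huy : polar Q u y = 0 := by rw [hu, b_smul_left, b_comm, n12, mul_zero]
  have hxu : polar Q u x = 1 := by rw [hu, b_smul_left, hd, dd d hd0]
  have hu0 : ∀ v, polar Q v (N (N x)) = 0 → polar Q v u = 0 := fun v h => by
    rw [hu, b_smul_right, h, mul_zero]
  have hyy : polar Q y y ≠ 0 := by rw [b_self, qn]; exact mul_ne_zero two hd0
  have huu : polar Q u u = 0 := by rw [b_self, hqu, mul_zero]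
  by_cases hne₁ : ∃ z, N₁ z ≠ 0
  swap
  · simp only [not_exists, not_not] at hne₁
    refine Or.inl ⟨u, y, hqu, huy, fun s t h => ?_, fun z => by rw [hsplit, hne₁, add_zero]⟩
    obtain ⟨t0, s0⟩ := li2_of (li_dual (Q := Q) ![y, u] ![y, x] (fun i j hij => by
        fin_cases i <;> fin_cases j <;> first | exact absurd hij (by decide) | assumption) (fun i => by
        fin_cases i <;> first | exact hyy | simp [hxu]))
      t s (by rw [← h, add_comm])
    exact ⟨s0, t0⟩
  have m1 : ∀ z, polar Q (N₁ z) x = 0 ∧ polar Q (N₁ z) y = 0 ∧ polar Q (N₁ z) u = 0 ∧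
      polar Q y (N₁ z) = 0 ∧ polar Q u (N₁ z) = 0 := fun z => by
    obtain ⟨a, b, e⟩ := hperp z
    exact ⟨a, b, hu0 _ e, by rw [b_comm]; exact b, by rw [b_comm]; exact hu0 _ e⟩
  by_cases h22 : ∃ z, N₁ (N₁ z) ≠ 0
  swap
  · simp only [not_exists, not_not] at h22
    have hnn : ∀ p r, polar Q (N₁ p) (N₁ r) = 0 := fun p r => by
      have h := hN₁.psi p r
      rw [h22, b_zero_left] at h
      linear_combination h
    obtain ⟨a, c, M, P⟩ := exists_piece hQ hN₁ h22 hne₁
    by_cases hM : ∃ z, M z ≠ 0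
    · exfalso
      obtain ⟨a', c', M', P'⟩ := exists_piece hQ P.good P.sq hM
      have li : LinearIndependent K ![u, N₁ a, N₁ c, M a', M c'] := by
        refine li_dual (Q := Q) _ ![x, c, a, c', a'] ?_ ?_
        · have mx : ∀ z, polar Q (M z) x = 0 := fun z => by
            obtain ⟨w, hw⟩ := P.mem z
            rw [hw]; exact (m1 w).1
          intro i j hij
          fin_cases i <;> fin_cases j <;> first | exact absurd hij (by decide) | assumption | exact (m1 _).1 | exact mx _ | exact P.cc | exact P'.cc | exact (P.perp _).1 | exact (P.perp _).2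
        · intro i
          fin_cases i <;> simp [hxu, P.pac, P.pca, P'.pac, P'.pca]
      have := iso_bound hQ _ Finset.univ li (by
        have hmem : ∀ i, ![u, N₁ a, N₁ c, M a', M c'] i = u ∨ ∃ z, ![u, N₁ a, N₁ c, M a', M c'] i = N₁ z := by
          intro i
          fin_cases i
          · exact Or.inl rfl
          · exact Or.inr ⟨a, rfl⟩
          · exact Or.inr ⟨c, rfl⟩
          · exact Or.inr (P.mem a')
          · exact Or.inr (P.mem c')
        intro i j _
        rcases hmem i with h | ⟨z, h⟩ <;> rcases hmem j with h' | ⟨z', h'⟩ <;> rw [h, h']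
        · exact huu
        · exact (m1 z').2.2.2.2
        · exact (m1 z).2.2.1
        · exact hnn z z')
      rw [hdim, Finset.card_univ, Fintype.card_fin] at this
      omega
    simp only [not_exists, not_not] at hM
    have hd2 : ∀ e : K, e ≠ 0 → e = 1 ∨ e = -1 := by decide
    refine Or.inr ⟨u, y, N₁ a, N₁ c, d, 0,
      (hd2 d hd0).elim (fun e => Or.inr (Or.inl ⟨e, rfl⟩)) (fun e => Or.inr (Or.inr (Or.inl ⟨e, rfl⟩))),
      ⟨hqu, P.qa, qn, P.qc, huy, (m1 a).2.2.2.2, (m1 c).2.2.2.2, (m1 a).2.2.2.1, (m1 c).2.2.2.1, P.ac⟩,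
      fun r s t p h => ?_, fun z => by rw [hsplit, P.form, hM, add_zero]⟩
    obtain ⟨s0, r0, t0, p0⟩ := li4_of (li_dual (Q := Q) ![y, u, N₁ a, N₁ c] ![y, x, c, a]
      (fun i j hij => by
        fin_cases i <;> fin_cases j <;> first | exact absurd hij (by decide) | assumption | exact P.cc | exact (m1 _).1 | exact (m1 _).2.1)
      (fun i => by fin_cases i <;> first | exact hyy | simp [hxu, P.pac, P.pca])) s r t p (by rw [← h]; abel)
    exact ⟨r0, s0, t0, p0⟩
  -- a second block
  obtain ⟨x', d', hq', hd', hd'0⟩ := hN₁.exists_block hQ h22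
  obtain ⟨xx', xn', nn', qn', xn1', nx', n12', q2'⟩ := hN₁.block hq' hd'
  obtain ⟨N₂, hN₂, hsplit', k0', k1', k2', hperp'⟩ := hN₁.peel hq' hd' hd'0
  set v := d' • N₁ (N₁ x') with hv
  set w := N₁ x' with hw
  have hqv : Q v = 0 := by rw [hv, q_smul, q2', mul_zero]
  have hvw : polar Q v w = 0 := by rw [hv, b_smul_left, b_comm, n12', mul_zero]
  have hx'v : polar Q v x' = 1 := by rw [hv, b_smul_left, hd', dd d' hd'0]
  have hvv : polar Q v v = 0 := by rw [b_self, hqv, mul_zero]
  have hww : polar Q w w ≠ 0 := by rw [b_self, qn']; exact mul_ne_zero two hd'0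
  obtain ⟨wx, wy, wu, yw, uw⟩ := m1 x'
  rw [← hw] at wx wy wu yw uw
  obtain ⟨vx, vy, vu, yv, uv⟩ : polar Q v x = 0 ∧ polar Q v y = 0 ∧ polar Q v u = 0 ∧
      polar Q y v = 0 ∧ polar Q u v = 0 := by
    obtain ⟨a, b, e, b', e'⟩ := m1 w
    simp only [hv, b_smul_left, b_smul_right, a, b, e, b', e', mul_zero, and_self]
  have gram : Gram Q u y v w d d' := ⟨hqu, hqv, qn, qn', huy, uv, uw, yv, yw, hvw⟩
  have li4' : LinearIndependent K ![y, w, u, v] :=
    li_dual (Q := Q) _ ![y, w, x, x']
      (fun i j hij => by fin_cases i <;> fin_cases j <;> first | exact absurd hij (by decide) | assumption)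
      (fun i => by fin_cases i <;> first | exact hyy | exact hww | simp [hxu, hx'v])
  have hN₂0 : ∀ z, N₂ z = 0 := by
    by_contra hne₂
    simp only [not_forall] at hne₂
    have mem : ∀ z, polar Q (N₂ z) x = 0 ∧ polar Q (N₂ z) u = 0 ∧ polar Q (N₂ z) y = 0 ∧
        polar Q (N₂ z) x' = 0 ∧ polar Q (N₂ z) v = 0 ∧ polar Q (N₂ z) w = 0 := by
      intro z
      obtain ⟨a0, a1, a2⟩ := hperp' z
      have e : N₂ z = N₁ z - sg Q v w z := by rw [hsplit']; abel
      refine ⟨?_, ?_, ?_, a0, by rw [hv, b_smul_right, a2, mul_zero], a1⟩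
      · rw [e]; simp only [sg, b_sub_left, b_smul_left, (m1 z).1, wx, vx]; ring
      · rw [e]; simp only [sg, b_sub_left, b_smul_left, (m1 z).2.2.1, wu, vu]; ring
      · rw [e]; simp only [sg, b_sub_left, b_smul_left, (m1 z).2.1, wy, vy]; ring
    by_cases h32 : ∃ z, N₂ (N₂ z) ≠ 0
    · obtain ⟨x'', d'', hq'', hd'', hd''0⟩ := hN₂.exists_block hQ h32
      obtain ⟨-, xn'', -, qn'', -, -, n12'', q2''⟩ := hN₂.block hq'' hd''
      obtain ⟨s1, s2, s3, s4, s5, s6⟩ := mem (N₂ x'')
      obtain ⟨t1, t2, t3, t4, t5, t6⟩ := mem x''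
      set y'' := N₂ x''
      have n' : polar Q (N₂ y'') y'' = 0 := by rw [b_comm]; exact n12''
      have hy'' : polar Q y'' y'' ≠ 0 := by rw [b_self, qn'']; exact mul_ne_zero two hd''0
      have hqq : polar Q (N₂ y'') (N₂ y'') = 0 := by rw [b_self, q2'', mul_zero]
      have li : LinearIndependent K ![y, w, y'', u, v, N₂ y''] := by
        refine li_dual (Q := Q) _ ![y, w, y'', x, x', x''] ?_ ?_
        · have uy'' : polar Q u y'' = 0 := by rw [b_comm]; exact t2
          have vy'' : polar Q v y'' = 0 := by rw [b_comm]; exact t5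
          intro i j hij
          fin_cases i <;> fin_cases j <;> first | exact absurd hij (by decide) | assumption
        · intro i
          fin_cases i <;> first | exact hyy | exact hww | exact hy'' | simp [hxu, hx'v, hd'', hd''0]
      have := iso_bound hQ _ {3, 4, 5} li (by
        have e1 : polar Q y u = 0 := by rw [b_comm]; exact huy
        have e2 : polar Q w v = 0 := by rw [b_comm]; exact hvw
        have e3 : polar Q y (N₂ y'') = 0 := by rw [b_comm]; exact s3
        have e4 : polar Q w (N₂ y'') = 0 := by rw [b_comm]; exact s6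
        have e5 : polar Q u (N₂ y'') = 0 := by rw [b_comm]; exact s2
        have e6 : polar Q v (N₂ y'') = 0 := by rw [b_comm]; exact s5
        intro i j hj
        simp only [Finset.mem_insert, Finset.mem_singleton] at hj
        rcases hj with rfl | rfl | rfl <;> fin_cases i <;> assumption)
      rw [hdim] at this
      have h3 : ({3, 4, 5} : Finset (Fin 6)).card = 3 := by decide
      omega
    · simp only [not_exists, not_not] at h32
      have hnn : ∀ p r, polar Q (N₂ p) (N₂ r) = 0 := fun p r => by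
        have h := hN₂.psi p r
        rw [h32, b_zero_left] at h
        linear_combination h
      obtain ⟨a, c, M, P⟩ := exists_piece hQ hN₂ h32 hne₂
      obtain ⟨a1, a2, a3, a4, a5, -⟩ := mem a
      obtain ⟨c1, c2, c3, c4, c5, -⟩ := mem c
      have li : LinearIndependent K ![y, u, v, N₂ a, N₂ c] := by
        refine li_dual (Q := Q) _ ![y, x, x', c, a] ?_ ?_
        · intro i j hij
          fin_cases i <;> fin_cases j <;> first | exact absurd hij (by decide) | assumption | exact P.cc
        · intro i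
          fin_cases i <;> first | exact hyy | simp [hxu, hx'v, P.pac, P.pca]
      have := iso_bound hQ _ {1, 2, 3, 4} li (by
        have e1 : polar Q y u = 0 := by rw [b_comm]; exact huy
        have fa : polar Q y (N₂ a) = 0 ∧ polar Q u (N₂ a) = 0 ∧ polar Q v (N₂ a) = 0 :=
          ⟨by rw [b_comm]; exact a3, by rw [b_comm]; exact a2, by rw [b_comm]; exact a5⟩
        have fc : polar Q y (N₂ c) = 0 ∧ polar Q u (N₂ c) = 0 ∧ polar Q v (N₂ c) = 0 :=
          ⟨by rw [b_comm]; exact c3, by rw [b_comm]; exact c2, by rw [b_comm]; exact c5⟩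
        intro i j hj
        simp only [Finset.mem_insert, Finset.mem_singleton] at hj
        obtain ⟨fa1, fa2, fa3⟩ := fa
        obtain ⟨fc1, fc2, fc3⟩ := fc
        rcases hj with rfl | rfl | rfl | rfl <;> fin_cases i <;> first | assumption | exact hnn _ _)
      rw [hdim] at this
      have h4 : ({1, 2, 3, 4} : Finset (Fin 5)).card = 4 := by decide
      omega
  have hform : ∀ z, N z = sg Q u y z + sg Q v w z := fun z => by
    rw [hsplit, hsplit', hN₂0, add_zero]
  have li4 : ∀ r s t p : K, r • u + s • y + t • v + p • w = 0 → r = 0 ∧ s = 0 ∧ t = 0 ∧ p = 0 := by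
    intro r s t p h
    obtain ⟨s0, p0, r0, t0⟩ := li4_of li4' s p r t (by rw [← h]; abel)
    exact ⟨r0, s0, t0, p0⟩
  have hcases : ∀ a c : K, a ≠ 0 → c ≠ 0 → (a = 1 ∧ c = 1) ∨ (a = 1 ∧ c = -1) ∨
      (a = -1 ∧ c = 1) ∨ (a = -1 ∧ c = -1) := by decide
  rcases hcases d d' hd0 hd'0 with ⟨e, e'⟩ | ⟨e, e'⟩ | ⟨e, e'⟩ | ⟨e, e'⟩
  · -- rotate (1,1) into (-1,-1)
    subst e e'
    obtain ⟨-, -, qy, qw, -, uv', uw', yv', yw', vw'⟩ := gram
    refine Or.inr ⟨u + v, -(y + w), u - v, -(y - w), -1, -1,
      Or.inr (Or.inr (Or.inr (Or.inr ⟨rfl, rfl⟩))), ?_, ?_, ?_⟩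
    · constructor <;>
        simp only [q_add, q_sub, QuadraticMap.map_neg, b_neg_left, b_neg_right,
          b_add_left, b_add_right, b_sub_left, b_sub_right, b_self, hqu, hqv, qy, qw, huy, uv', uw',
          yv', yw', vw', b_comm y u, b_comm v u, b_comm w u, b_comm v y, b_comm w y, b_comm w v] <;>
        decide
    · intro r s t p h
      obtain ⟨e1, e2, e3, e4⟩ := li4 (r + t) (-(s + p)) (r - t) (-(s - p)) (by rw [← h]; module)
      have h2 : ∀ a c : K, a + c = 0 → a - c = 0 → a = 0 ∧ c = 0 := by decide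
      obtain ⟨r0, t0⟩ := h2 r t e1 e3
      obtain ⟨s0, p0⟩ := h2 s p (neg_eq_zero.1 e2) (neg_eq_zero.1 e4)
      exact ⟨r0, s0, t0, p0⟩
    · intro z
      have qp : Q (y + w) = -1 := by rw [q_add, qy, qw, yw']; decide
      have qm : Q (y - w) = -1 := by rw [q_sub, qy, qw, yw']; decide
      rw [hform]
      simp only [sg, qy, qw, QuadraticMap.map_neg, qp, qm, b_neg_right,
        b_add_right, b_sub_right]
      match_scalars <;> ring_nf <;> simp [show (2 : K) = -1 by decide, show (3 : K) = 0 by decide,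
        show (4 : K) = 1 by decide]
      all_goals ring
  · exact Or.inr ⟨u, y, v, w, d, d', Or.inr (Or.inr (Or.inr (Or.inl ⟨e, e'⟩))), gram, li4, hform⟩
  · refine Or.inr ⟨v, w, u, y, d', d, Or.inr (Or.inr (Or.inr (Or.inl ⟨e', e⟩))), ?_,
      fun r s t p h => ?_, fun z => by rw [hform, add_comm]⟩
    · obtain ⟨g1, g2, g3, g4, g5, g6, g7, g8, g9, g10⟩ := gram
      exact ⟨g2, g1, g4, g3, g10, by rw [b_comm]; exact g6, by rw [b_comm]; exact g8,
        by rw [b_comm]; exact g7, by rw [b_comm]; exact g9, g5⟩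
    · obtain ⟨e1, e2, e3, e4⟩ := li4 t p r s (by rw [← h]; module)
      exact ⟨e3, e4, e1, e2⟩
  · exact Or.inr ⟨u, y, v, w, d, d', Or.inr (Or.inr (Or.inr (Or.inr ⟨e, e'⟩))), gram, li4, hform⟩

end Cfsg.Agent.Omega8Plus
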