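import Cfsg.Prelude.Def_KGroupFacts
import Mathlib.GroupTheory.GroupAction.Basic
import Mathlib.GroupTheory.OrderOfElement

/-!
Conjugacy classes of subgroups of a given order, with the action of the outer automorphisms.
-/

set_option autoImplicit false

namespace Cfsg.Agent.Omega8Plus

universe u

variable (G : Type u) [Group G] (n : ℕ)

/-- subgroups of order `n` -/
abbrev SubOrd := {Y : Subgroup G // Nat.card Y = n}

/-- conjugacy of subgroups -/
def subSetoid : Setoid (SubOrd G n) where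
  r a b := ∃ g : G, a.1.map (MulAut.conj g).toMonoidHom = b.1
  iseqv := by
    refine ⟨fun a => ⟨1, ?_⟩, fun {a b} h => ?_, fun {a b c} h h' => ?_⟩
    · ext x; simp
    · obtain ⟨g, hg⟩ := h
      refine ⟨g⁻¹, ?_⟩
      rw [← hg, Subgroup.map_map]
      ext x; simp [MulAut.conj_apply, mul_assoc]
    · obtain ⟨g, hg⟩ := h
      obtain ⟨g', hg'⟩ := h'
      refine ⟨g' * g, ?_⟩
      rw [← hg', ← hg, Subgroup.map_map]
      congr 1
      ext x; simp [MulAut.conj_apply, mul_assoc]

/-- the classes -/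
abbrev Cl := Quotient (subSetoid G n)

variable {G n}

/-- the class of a subgroup -/
def mkCl (Y : Subgroup G) (h : Nat.card Y = n) : Cl G n := Quotient.mk _ ⟨Y, h⟩

theorem mkCl_eq_iff {Y Z : Subgroup G} {h : Nat.card Y = n} {h' : Nat.card Z = n} :
    mkCl Y h = mkCl Z h' ↔ ∃ g : G, Y.map (MulAut.conj g).toMonoidHom = Z :=
  Quotient.eq (r := subSetoid G n)

theorem exists_mkCl (c : Cl G n) : ∃ (Y : Subgroup G) (h : Nat.card Y = n), mkCl Y h = c :=
  Quotient.inductionOn c fun Y => ⟨Y.1, Y.2, rfl⟩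

/-- the action of an automorphism on classes -/
def autMap (θ : MulAut G) : Cl G n → Cl G n :=
  Quotient.map (sa := subSetoid G n) (sb := subSetoid G n)
    (fun Y => ⟨Y.1.map θ.toMonoidHom, by rw [Subgroup.card_map_of_injective (f := θ.toMonoidHom) θ.injective]; exact Y.2⟩)
    (fun a b ⟨g, hg⟩ => ⟨θ g, by
      show (a.1.map θ.toMonoidHom).map (MulAut.conj (θ g)).toMonoidHom = b.1.map θ.toMonoidHom
      rw [← hg, Subgroup.map_map, Subgroup.map_map]
      congr 1
      ext x; simp [MulAut.conj_apply]⟩)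

theorem autMap_mk (θ : MulAut G) (Y : Subgroup G) (h : Nat.card Y = n)
    (h' : Nat.card (Y.map θ.toMonoidHom) = n) : autMap θ (mkCl Y h) = mkCl (Y.map θ.toMonoidHom) h' := rfl

theorem autMap_one (c : Cl G n) : autMap (1 : MulAut G) c = c := by
  obtain ⟨Y, h, rfl⟩ := exists_mkCl c
  exact mkCl_eq_iff.2 ⟨1, by ext x; simp⟩

theorem autMap_mul (θ θ' : MulAut G) (c : Cl G n) : autMap (θ * θ') c = autMap θ (autMap θ' c) := by
  obtain ⟨Y, h, rfl⟩ := exists_mkCl c
  refine mkCl_eq_iff.2 ⟨1, ?_⟩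
  rw [Subgroup.map_map, Subgroup.map_map]
  ext x; simp

/-- the action as a homomorphism -/
def autPerm : MulAut G →* Equiv.Perm (Cl G n) where
  toFun θ := ⟨autMap θ, autMap θ⁻¹, fun c => by rw [← autMap_mul, inv_mul_cancel, autMap_one],
    fun c => by rw [← autMap_mul, mul_inv_cancel, autMap_one]⟩
  map_one' := Equiv.ext autMap_one
  map_mul' θ θ' := Equiv.ext (autMap_mul θ θ')

theorem inn_le_ker : Cfsg.Inn G ≤ (autPerm (G := G) (n := n)).ker := by
  rintro _ ⟨g, rfl⟩
  refine MonoidHom.mem_ker.2 (Equiv.ext fun c => ?_)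
  obtain ⟨Y, h, rfl⟩ := exists_mkCl c
  refine (mkCl_eq_iff.2 ⟨g, ?_⟩).symm
  rfl

/-- the action of the outer automorphisms -/
def outPerm : Cfsg.Out G →* Equiv.Perm (Cl G n) :=
  QuotientGroup.lift (Cfsg.Inn G) autPerm inn_le_ker

theorem outPerm_mk (θ : MulAut G) (c : Cl G n) :
    outPerm (QuotientGroup.mk' (Cfsg.Inn G) θ) c = autMap θ c := rfl

end Cfsg.Agent.Omega8Plus
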