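import Mathlib.GroupTheory.Perm.Basic
import Mathlib.GroupTheory.Perm.Sign
import Mathlib.GroupTheory.GroupAction.Basic
import Mathlib.GroupTheory.Perm.Cycle.Basic
import Mathlib.GroupTheory.Sylow
import Mathlib.GroupTheory.IndexNormal

/-!
The action of `S₄` on thirteen classes: from the types of the classes to the orbits of `S₄` and of
its subgroups of order six.
-/

set_option autoImplicit false
set_option maxRecDepth 4000

namespace Cfsg.Agent.Omega8Plus

open Equiv

/-- the symmetric group on four letters -/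
abbrev P4 := Equiv.Perm (Fin 4)

/-- first element of the four-group -/
def es : P4 := swap 0 1 * swap 2 3
/-- second element of the four-group -/
def el : P4 := swap 0 2 * swap 1 3
/-- the transposition -/
def er : P4 := swap 0 1

/-- the group generated by `es` and `er` -/
def hset : Finset P4 := {1, es, er, es * er}
/-- the four-group -/
def vset : Finset P4 := {1, es, el, es * el}

/-- exchange of the types -/
def flipTy : Fin 8 → Fin 8 := ![0, 2, 1, 3, 5, 4, 6, 7]

theorem four_conj : ∀ g : P4, g * es * g⁻¹ = es ∨ g * es * g⁻¹ = el ∨ g * es * g⁻¹ = es * el := by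
  decide +kernel

theorem four_cent : ∀ g : P4, g * es * g⁻¹ = es → g ∈ hset ∨ ∃ h ∈ hset, g = h * el := by
  decide +kernel

theorem four_conj_el : ∀ g : P4, g * el * g⁻¹ = es ∨ g * el * g⁻¹ = el ∨ g * el * g⁻¹ = es * el := by
  decide +kernel

theorem hset_mul : ∀ a ∈ hset, ∀ b ∈ hset, a⁻¹ * b ∈ hset := by decide +kernel

theorem v_decomp : ∀ (g : P4) (b : Fin 4), ∃ v ∈ vset, (v⁻¹ * g) b = b := by decide +kernel

theorem v_pick : ∀ g : P4, g ∈ vset → g = 1 ∨ g = es ∨ g = el ∨ g = es * el := by decide +kernel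

theorem point_or_four : ∀ v ∈ vset, ∀ t ∈ ({er, es * er} : Finset P4),
    (∃ b : Fin 4, ∀ g : P4, g b = b → g ∈ ({1, v * (swap 0 1 * swap 1 2), (v * (swap 0 1 * swap 1 2)) ^ 2,
      t, t * (v * (swap 0 1 * swap 1 2)), t * (v * (swap 0 1 * swap 1 2)) ^ 2} : Finset P4)) ∨
    (t * (v * (swap 0 1 * swap 1 2))) ^ 2 ∈ ({es, el, es * el} : Finset P4) := by decide +kernel

theorem swap_conj : ∀ a b : Fin 4, a ≠ b → ∃ g : P4, g * er * g⁻¹ = swap a b := by decide +kernel

/-- cosets of `hset` -/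
def six : Fin 6 → P4 := ![1, el, swap 1 2, swap 1 2 * el, swap 1 3, swap 1 3 * el]

theorem six_inj : ∀ i j : Fin 6, (six i)⁻¹ * six j ∈ hset → i = j := by decide +kernel

theorem six_moved : ∀ i : Fin 6, 2 ≤ (i : ℕ) → six i * es * (six i)⁻¹ ≠ es := by decide +kernel

/-- first representative for a point stabiliser on the cosets of `hset` -/
def gIn (a : Fin 4) : P4 := swap 0 a
/-- second representative for a point stabiliser on the cosets of `hset` -/
def gOut (a : Fin 4) : P4 := if a = 0 ∨ a = 1 then el else 1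

theorem stab_six_sep : ∀ a : Fin 4, ∀ h : P4, h a = a → (gOut a)⁻¹ * (h * gIn a) ∉ hset := by
  decide +kernel

theorem stab_six_cover : ∀ a : Fin 4, ∀ g : P4, ∃ h : P4, h a = a ∧
    ((gIn a)⁻¹ * (h * g) ∈ hset ∨ (gOut a)⁻¹ * (h * g) ∈ hset) := by decide +kernel

theorem stab_four_cover : ∀ a c : Fin 4, c ≠ a → ∃ h : P4, h a = a ∧ h c = a + 1 := by decide +kernel

theorem six_stab : ∀ σ τ : P4, σ ^ 3 = 1 → σ ≠ 1 →
    τ * σ * τ⁻¹ = σ ∨ τ * σ * τ⁻¹ = σ⁻¹ → ∀ x, σ x = x → τ x = x := by decide +kernel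

theorem cube_fix : ∀ σ : P4, σ ^ 3 = 1 → ∃ x, σ x = x := by decide +kernel

/-- A subgroup of order six fixes a point and is its whole stabiliser. -/
theorem exists_point (A : Subgroup P4) (hA : Nat.card A = 6) :
    ∃ x : Fin 4, ∀ g : P4, g ∈ A ↔ g x = x := by
  haveI : Fact (Nat.Prime 3) := ⟨Nat.prime_three⟩
  obtain ⟨s, hs⟩ := exists_prime_orderOf_dvd_card' (G := A) 3 (by rw [hA]; norm_num)
  have hs' : orderOf (s : P4) = 3 := by rw [Subgroup.orderOf_coe, hs]
  have h3 : (s : P4) ^ 3 = 1 := by rw [← hs', pow_orderOf_eq_one]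
  have h1 : (s : P4) ≠ 1 := fun h => by rw [h, orderOf_one] at hs'; omega
  obtain ⟨x, hx⟩ := cube_fix _ h3
  have hn : (Subgroup.zpowers s).Normal := by
    refine Subgroup.normal_of_index_eq_two ?_
    have := Subgroup.card_mul_index (Subgroup.zpowers s)
    rw [Nat.card_zpowers, hs, hA] at this
    omega
  have hfix : ∀ t : A, (t : P4) x = x := fun t => by
    refine six_stab _ t h3 h1 ?_ x hx
    have hm := hn.conj_mem s (Subgroup.mem_zpowers s) t
    rw [mem_zpowers_iff_mem_range_orderOf, hs] at hm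
    simp only [Finset.mem_image, Finset.mem_range] at hm
    obtain ⟨k, hk, he⟩ := hm
    have he' : (s : P4) ^ k = t * s * (t : P4)⁻¹ := by
      have := congrArg Subtype.val he
      simpa using this
    interval_cases k
    · exfalso
      rw [pow_zero] at he'
      exact h1 (by simpa using he'.symm)
    · left; rw [← he', pow_one]
    · right
      rw [← he']
      exact (inv_eq_of_mul_eq_one_right (by rw [← pow_succ', h3])).symm
  refine ⟨x, fun g => ⟨fun hg => hfix ⟨g, hg⟩, fun hg => ?_⟩⟩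
  have e : A = MulAction.stabilizer P4 x := by
    refine Subgroup.eq_of_le_of_card_ge (fun t ht => hfix ⟨t, ht⟩) ?_
    rw [hA, Nat.card_eq_fintype_card]
    have : ∀ y : Fin 4, Fintype.card (MulAction.stabilizer P4 y) = 6 := by decide +kernel
    rw [this]
  rw [e]
  exact hg

/-- What is known about the classes: their types, and the symmetries of representatives. -/
structure Typing (X : Type*) [MulAction P4 X] where
  ty : X → Fin 8
  rep : Fin 8 → X
  ty_rep : ∀ i, ty (rep i) = i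
  ty_es : ∀ x, ty (es • x) = ty x
  ty_er : ∀ x, ty (er • x) = ty x
  ty_el : ∀ x, ty (el • x) = flipTy (ty x)
  cover : ∀ x, ∃ h ∈ hset, x = h • rep (ty x)
  single : ∀ i ∈ ([0, 1, 2, 6, 7] : List (Fin 8)), es • rep i = rep i ∧ er • rep i = rep i
  half : er • rep 4 = rep 4 ∨ (es * er) • rep 4 = rep 4

namespace Typing

variable {X : Type*} [MulAction P4 X] (D : Typing X)

theorem ty_h {h : P4} (hh : h ∈ hset) (x : X) : D.ty (h • x) = D.ty x := by
  simp only [hset, Finset.mem_insert, Finset.mem_singleton] at hh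
  rcases hh with rfl | rfl | rfl | rfl
  · rw [one_smul]
  · rw [D.ty_es]
  · rw [D.ty_er]
  · rw [mul_smul, D.ty_es, D.ty_er]

theorem single_eq {x : X} {i : Fin 8} (hi : i ∈ ([0, 1, 2, 6, 7] : List (Fin 8))) (hx : D.ty x = i) :
    x = D.rep i := by
  obtain ⟨h, hh, e⟩ := D.cover x
  rw [hx] at e
  obtain ⟨a, b⟩ := D.single i hi
  simp only [hset, Finset.mem_insert, Finset.mem_singleton] at hh
  rcases hh with rfl | rfl | rfl | rfl
  · rwa [one_smul] at e
  · rwa [a] at e
  · rwa [b] at e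
  · rwa [mul_smul, b, a] at e

theorem ty_v_fix {y : X} {v : P4} (hv : v = el ∨ v = es * el) (h : v • y = y) :
    flipTy (D.ty y) = D.ty y := by
  have := congrArg D.ty h
  rcases hv with rfl | rfl
  · rwa [D.ty_el] at this
  · rwa [mul_smul, D.ty_es, D.ty_el] at this

theorem fix_h {x : X} (hs : es • x = x) (hr : er • x = x) {h : P4} (hh : h ∈ hset) : h • x = x := by
  simp only [hset, Finset.mem_insert, Finset.mem_singleton] at hh
  rcases hh with rfl | rfl | rfl | rfl
  · exact one_smul _ _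
  · exact hs
  · exact hr
  · rw [mul_smul, hr, hs]

section Six

variable {x : X} (hs : es • x = x) (hr : er • x = x) (hne : flipTy (D.ty x) ≠ D.ty x)
include hs hr hne

theorem el_moves : el • x ≠ x := fun h => hne (D.ty_v_fix (Or.inl rfl) h)

theorem esl_moves : (es * el) • x ≠ x := fun h => hne (D.ty_v_fix (Or.inr rfl) h)

theorem stab_iff (g : P4) : g • x = x ↔ g ∈ hset := by
  refine ⟨fun hg => ?_, fun hh => fix_h hs hr hh⟩
  have hgs : (g * es * g⁻¹) • x = x := by
    rw [mul_smul, mul_smul, inv_smul_eq_iff.2 hg.symm, hs, hg]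
  rcases four_conj g with e | e | e <;> rw [e] at hgs
  · rcases four_cent g e with h | ⟨h, hh, rfl⟩
    · exact h
    · exfalso
      apply D.el_moves hs hr hne
      rw [mul_smul] at hg
      rw [← inv_smul_smul h (el • x), hg, inv_smul_eq_iff.2 (fix_h hs hr hh).symm]
  · exact absurd hgs (D.el_moves hs hr hne)
  · exact absurd hgs (D.esl_moves hs hr hne)

theorem six_eq_iff (g g' : P4) : g • x = g' • x ↔ g'⁻¹ * g ∈ hset := by
  rw [← D.stab_iff hs hr hne, mul_smul, inv_smul_eq_iff]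

theorem ty_orbit (g : P4) : (g * es * g⁻¹ = es ∧ (D.ty (g • x) = D.ty x ∨ D.ty (g • x) = flipTy (D.ty x)))
    ∨ (g * es * g⁻¹ ≠ es ∧ D.ty (g • x) = 3) := by
  by_cases e : g * es * g⁻¹ = es
  · left
    refine ⟨e, ?_⟩
    rcases four_cent g e with h | ⟨h, hh, rfl⟩
    · exact Or.inl (D.ty_h h x)
    · right; rw [mul_smul, D.ty_h hh, D.ty_el]
  · right
    refine ⟨e, ?_⟩
    have hfix : (g * es * g⁻¹) • g • x = g • x := by
      rw [mul_smul, mul_smul, inv_smul_smul, hs]
    have hv : g * es * g⁻¹ = el ∨ g * es * g⁻¹ = es * el := (four_conj g).resolve_left e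
    have ht := D.ty_v_fix hv hfix
    have hcases : ∀ i : Fin 8, flipTy i = i → i = 3 ∨ i ∈ ([0, 1, 2, 6, 7] : List (Fin 8)) := by decide
    rcases hcases _ ht with h | h
    · exact h
    exfalso
    have hy := D.single_eq h rfl
    obtain ⟨a, -⟩ := D.single _ h
    rw [← hy] at a
    have hel : el • g • x = g • x := by
      rcases hv with h' | h' <;> rw [h'] at hfix
      · exact hfix
      · rw [mul_smul] at hfix
        exact smul_left_cancel es (hfix.trans a.symm)
    apply D.el_moves hs hr hne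
    have hg : (g * el * g⁻¹) • g • x = g • x := by
      rcases four_conj_el g with h' | h' | h' <;> rw [h']
      · exact a
      · exact hel
      · rw [mul_smul, hel, a]
    rwa [mul_smul, mul_smul, inv_smul_smul, smul_left_cancel_iff] at hg

/-- every class of type three lies in the orbit -/
theorem three_mem {y : X} (hy : D.ty y = 3) : ∃ i : Fin 6, six i • x = y := by
  classical
  let f : Fin 4 → X := fun k => six ⟨(k : ℕ) + 2, by omega⟩ • x
  have hf : Function.Injective f := fun a b h => by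
    have := six_inj _ _ ((D.six_eq_iff hs hr hne _ _).1 h.symm)
    exact Fin.ext (by simpa using congrArg Fin.val this)
  have hty : ∀ k, D.ty (f k) = 3 := fun k => by
    rcases D.ty_orbit hs hr hne (six ⟨(k : ℕ) + 2, by omega⟩) with ⟨e, -⟩ | ⟨-, e⟩
    · exact absurd e (six_moved _ (by simp))
    · exact e
  have hsub : Finset.univ.image f ⊆ hset.image (fun h => h • D.rep 3) := by
    intro z hz
    simp only [Finset.mem_image, Finset.mem_univ, true_and] at hz
    obtain ⟨k, rfl⟩ := hz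
    obtain ⟨h, hh, e⟩ := D.cover (f k)
    rw [hty] at e
    exact Finset.mem_image.2 ⟨h, hh, e.symm⟩
  have heq := Finset.eq_of_subset_of_card_le hsub (by
    rw [Finset.card_image_of_injective _ hf, Finset.card_univ, Fintype.card_fin]
    exact Finset.card_image_le.trans (by decide))
  obtain ⟨h, hh, e⟩ := D.cover y
  rw [hy] at e
  have hy' : y ∈ Finset.univ.image f := heq.symm ▸ Finset.mem_image.2 ⟨h, hh, e.symm⟩
  simp only [Finset.mem_image, Finset.mem_univ, true_and] at hy'
  obtain ⟨k, hk⟩ := hy'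
  exact ⟨_, hk⟩

end Six

theorem one_hyp : es • D.rep 1 = D.rep 1 ∧ er • D.rep 1 = D.rep 1 ∧
    flipTy (D.ty (D.rep 1)) ≠ D.ty (D.rep 1) :=
  ⟨(D.single 1 (by simp)).1, (D.single 1 (by simp)).2, by rw [D.ty_rep]; decide⟩

theorem ty_one (g : P4) : D.ty (g • D.rep 1) = 1 ∨ D.ty (g • D.rep 1) = 2 ∨ D.ty (g • D.rep 1) = 3 := by
  obtain ⟨a, b, c⟩ := D.one_hyp
  rcases D.ty_orbit a b c g with ⟨-, h | h⟩ | ⟨-, h⟩
  · left; rw [h, D.ty_rep]
  · right; left; rw [h, D.ty_rep]; rfl
  · exact Or.inr (Or.inr h)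

theorem four_not_fix : es • D.rep 4 ≠ D.rep 4 := by
  intro hs
  have hr : er • D.rep 4 = D.rep 4 := by
    rcases D.half with h | h
    · exact h
    · rw [mul_smul] at h
      exact smul_left_cancel es (h.trans hs.symm)
  have hne : flipTy (D.ty (D.rep 4)) ≠ D.ty (D.rep 4) := by rw [D.ty_rep]; decide
  obtain ⟨a, b, c⟩ := D.one_hyp
  obtain ⟨i, hi⟩ := D.three_mem hs hr hne (D.ty_rep 3)
  obtain ⟨j, hj⟩ := D.three_mem a b c (D.ty_rep 3)
  have e : ((six i)⁻¹ * six j) • D.rep 1 = D.rep 4 := by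
    rw [mul_smul, hj, ← hi, inv_smul_smul]
  have h := D.ty_one ((six i)⁻¹ * six j)
  rw [e, D.ty_rep] at h
  revert h; decide

theorem ty_low {y : X} (hy : D.ty y = 1 ∨ D.ty y = 2 ∨ D.ty y = 3) : ∃ i : Fin 6, six i • D.rep 1 = y := by
  obtain ⟨a, b, c⟩ := D.one_hyp
  rcases hy with h | h | h
  · exact ⟨0, by rw [D.single_eq (by simp) h]; exact one_smul _ _⟩
  · refine ⟨1, ?_⟩
    rw [D.single_eq (x := y) (by simp) h]
    refine D.single_eq (by simp) ?_
    show D.ty (el • D.rep 1) = 2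
    rw [D.ty_el, D.ty_rep]; rfl
  · exact D.three_mem a b c h

theorem fix_zero {i : Fin 8} (hi : i ∈ ([0, 6, 7] : List (Fin 8))) :
    es • D.rep i = D.rep i ∧ el • D.rep i = D.rep i ∧ er • D.rep i = D.rep i := by
  have h5 : i ∈ ([0, 1, 2, 6, 7] : List (Fin 8)) := by revert hi; revert i; decide
  refine ⟨(D.single i h5).1, D.single_eq h5 ?_, (D.single i h5).2⟩
  rw [D.ty_el, D.ty_rep]
  revert hi; revert i; decide

theorem ty_four (g : P4) : D.ty (g • D.rep 4) = 4 ∨ D.ty (g • D.rep 4) = 5 := by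
  have hcases : ∀ i : Fin 8, (i = 4 ∨ i = 5) ∨ (i = 1 ∨ i = 2 ∨ i = 3) ∨ i ∈ ([0, 6, 7] : List (Fin 8)) := by
    decide
  rcases hcases (D.ty (g • D.rep 4)) with h | h | h
  · exact h
  · obtain ⟨i, hi⟩ := D.ty_low h
    have h' := D.ty_one (g⁻¹ * six i)
    rw [mul_smul, hi, inv_smul_smul, D.ty_rep] at h'
    exact absurd h' (by decide)
  · exfalso
    have h5 : D.ty (g • D.rep 4) ∈ ([0, 1, 2, 6, 7] : List (Fin 8)) := by
      revert h; generalize D.ty (g • D.rep 4) = i; revert i; decide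
    obtain ⟨a, b, -⟩ := D.fix_zero h
    rw [← D.single_eq h5 rfl] at a b
    apply D.four_not_fix
    have hg : (g * es * g⁻¹) • g • D.rep 4 = g • D.rep 4 := by
      rcases four_conj g with h' | h' | h' <;> rw [h']
      · exact a
      · exact b
      · rw [mul_smul, b, a]
    rwa [mul_smul, mul_smul, inv_smul_smul, smul_left_cancel_iff] at hg

theorem four_v {v : P4} (hv : v ∈ ({es, el, es * el} : Finset P4)) : v • D.rep 4 ≠ D.rep 4 := by
  simp only [Finset.mem_insert, Finset.mem_singleton] at hv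
  intro h
  rcases hv with rfl | rfl | rfl
  · exact D.four_not_fix h
  · have := D.ty_v_fix (Or.inl rfl) h
    rw [D.ty_rep] at this; revert this; decide
  · have := D.ty_v_fix (Or.inr rfl) h
    rw [D.ty_rep] at this; revert this; decide

theorem ty_high {y : X} (hy : D.ty y = 4 ∨ D.ty y = 5) : ∃ v ∈ vset, v • D.rep 4 = y := by
  have h4 : ∀ z : X, D.ty z = 4 → z = D.rep 4 ∨ z = es • D.rep 4 := by
    intro z hz
    obtain ⟨h, hh, e⟩ := D.cover z
    rw [hz] at e
    simp only [hset, Finset.mem_insert, Finset.mem_singleton] at hh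
    rcases hh with rfl | rfl | rfl | rfl
    · exact Or.inl (by rwa [one_smul] at e)
    · exact Or.inr e
    · rcases D.half with k | k
      · exact Or.inl (by rwa [k] at e)
      · right
        rw [e]
        calc er • D.rep 4 = (es * (es * er)) • D.rep 4 := by
              rw [show es * (es * er) = er by decide +kernel]
          _ = es • D.rep 4 := by rw [mul_smul, k]
    · rcases D.half with k | k
      · exact Or.inr (by rwa [mul_smul, k] at e)
      · exact Or.inl (by rwa [k] at e)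
  rcases hy with h | h
  · rcases h4 y h with e | e
    · exact ⟨1, by decide, by rw [one_smul, e]⟩
    · exact ⟨es, by decide, e.symm⟩
  · rcases h4 (el • y) (by rw [D.ty_el, h]; rfl) with e | e
    · exact ⟨el, by decide, by rw [← e, ← mul_smul, show el * el = 1 by decide +kernel, one_smul]⟩
    · refine ⟨es * el, by decide, ?_⟩
      rw [show es * el = el * es by decide +kernel, mul_smul, ← e, ← mul_smul,
        show el * el = 1 by decide +kernel, one_smul]

theorem exists_point_four : ∃ b : Fin 4, ∀ g g' : P4, g • D.rep 4 = g' • D.rep 4 ↔ g b = g' b := by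
  have huniq : ∀ v ∈ vset, v • D.rep 4 = D.rep 4 → v = 1 := by
    intro v hv h
    by_contra h1
    refine D.four_v ?_ h
    rcases v_pick v hv with rfl | rfl | rfl | rfl
    · exact absurd rfl h1
    all_goals decide
  obtain ⟨t, ht, htx⟩ : ∃ t ∈ ({er, es * er} : Finset P4), t • D.rep 4 = D.rep 4 := by
    rcases D.half with h | h
    · exact ⟨er, by simp, h⟩
    · exact ⟨es * er, by simp, h⟩
  obtain ⟨v, hv, hvx⟩ := D.ty_high (D.ty_four (swap 0 1 * swap 1 2 : P4))
  have hinv : ∀ v ∈ vset, v * v = 1 := by decide +kernel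
  have hk : (v * (swap 0 1 * swap 1 2)) • D.rep 4 = D.rep 4 := by
    rw [mul_smul, ← hvx, ← mul_smul, hinv v hv, one_smul]
  have htk : (t * (v * (swap 0 1 * swap 1 2))) • D.rep 4 = D.rep 4 := by rw [mul_smul, hk, htx]
  rcases point_or_four v hv t ht with ⟨b, hb⟩ | hbad
  swap
  · refine absurd ?_ (D.four_v hbad)
    rw [pow_two, mul_smul, htk, htk]
  have hfix : ∀ g : P4, g b = b → g • D.rep 4 = D.rep 4 := by
    intro g hg
    have hkk : ((v * (swap 0 1 * swap 1 2)) ^ 2) • D.rep 4 = D.rep 4 := by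
      rw [pow_two, mul_smul, hk, hk]
    have hmem := hb g hg
    simp only [Finset.mem_insert, Finset.mem_singleton] at hmem
    rcases hmem with rfl | rfl | rfl | rfl | rfl | rfl
    · exact one_smul _ _
    · exact hk
    · exact hkk
    · exact htx
    · exact htk
    · rw [mul_smul, hkk, htx]
  have hiff : ∀ g : P4, g • D.rep 4 = D.rep 4 ↔ g b = b := by
    refine fun g => ⟨fun hg => ?_, hfix g⟩
    obtain ⟨w, hw, hwb⟩ := v_decomp g b
    have h1 := hfix _ hwb
    rw [mul_smul, hg, inv_smul_eq_iff, eq_comm] at h1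
    have hw1 := huniq w hw h1
    rwa [hw1, inv_one, one_mul] at hwb
  refine ⟨b, fun g g' => ?_⟩
  rw [← inv_smul_eq_iff.trans eq_comm, ← mul_smul, hiff, Equiv.Perm.mul_apply, Equiv.Perm.inv_def,
    Equiv.symm_apply_eq]
  exact eq_comm

theorem fix_all {i : Fin 8} (hi : i ∈ ([0, 6, 7] : List (Fin 8))) (g : P4) : g • D.rep i = D.rep i := by
  have hY : ∀ g : P4, D.ty (g • D.rep i) ∈ ([0, 6, 7] : List (Fin 8)) := by
    intro g
    have hcases : ∀ j : Fin 8, (j = 4 ∨ j = 5) ∨ (j = 1 ∨ j = 2 ∨ j = 3) ∨ j ∈ ([0, 6, 7] : List (Fin 8)) := by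
      decide
    rcases hcases (D.ty (g • D.rep i)) with h | h | h
    · exfalso
      obtain ⟨v, -, hv⟩ := D.ty_high h
      have h' := D.ty_four (g⁻¹ * v)
      rw [mul_smul, hv, inv_smul_smul, D.ty_rep] at h'
      exact (show ∀ j : Fin 8, j ∈ ([0, 6, 7] : List (Fin 8)) → ¬(j = 4 ∨ j = 5) by decide) i hi h'
    · exfalso
      obtain ⟨v, hv⟩ := D.ty_low h
      have h' := D.ty_one (g⁻¹ * six v)
      rw [mul_smul, hv, inv_smul_smul, D.ty_rep] at h'
      exact (show ∀ j : Fin 8, j ∈ ([0, 6, 7] : List (Fin 8)) → ¬(j = 1 ∨ j = 2 ∨ j = 3) by decide) i hi h'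
    · exact h
  induction g using Equiv.Perm.swap_induction_on with
  | one => exact one_smul _ _
  | swap_mul f a b hab ih =>
    rw [mul_smul, ih]
    obtain ⟨c, hc⟩ := swap_conj a b hab
    rw [← hc, mul_smul, mul_smul]
    have h5 : D.ty (c⁻¹ • D.rep i) ∈ ([0, 1, 2, 6, 7] : List (Fin 8)) := by
      have := hY c⁻¹
      revert this; generalize D.ty (c⁻¹ • D.rep i) = j; revert j; decide
    have e := D.single_eq h5 rfl
    rw [e, (D.single _ h5).2, ← e, smul_inv_smul]

theorem ty_cases (y : X) : (D.ty y = 1 ∨ D.ty y = 2 ∨ D.ty y = 3) ∨ (D.ty y = 4 ∨ D.ty y = 5) ∨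
    y = D.rep 0 ∨ y = D.rep 6 ∨ y = D.rep 7 := by
  have hcases : ∀ i : Fin 8, (i = 1 ∨ i = 2 ∨ i = 3) ∨ (i = 4 ∨ i = 5) ∨ i = 0 ∨ i = 6 ∨ i = 7 := by decide
  rcases hcases (D.ty y) with h | h | h | h | h
  · exact Or.inl h
  · exact Or.inr (Or.inl h)
  · exact Or.inr (Or.inr (Or.inl (D.single_eq (by simp) h)))
  · exact Or.inr (Or.inr (Or.inr (Or.inl (D.single_eq (by simp) h))))
  · exact Or.inr (Or.inr (Or.inr (Or.inr (D.single_eq (by simp) h))))

/-- the thirteen classes -/
def all : Fin 13 → X :=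
  ![D.rep 0, D.rep 6, D.rep 7, six 0 • D.rep 1, six 1 • D.rep 1, six 2 • D.rep 1, six 3 • D.rep 1,
    six 4 • D.rep 1, six 5 • D.rep 1, (1 : P4) • D.rep 4, es • D.rep 4, el • D.rep 4, (es * el) • D.rep 4]

theorem all_bijective : Function.Bijective D.all := by
  have h1 : ∀ (g : P4) (i : Fin 8), i ∈ ([0, 4, 5, 6, 7] : List (Fin 8)) → g • D.rep 1 ≠ D.rep i := by
    intro g i hi e
    have := D.ty_one g
    rw [e, D.ty_rep] at this
    exact (show ∀ j : Fin 8, j ∈ ([0, 4, 5, 6, 7] : List (Fin 8)) → ¬(j = 1 ∨ j = 2 ∨ j = 3) by decide) i hi this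
  have h4 : ∀ (g : P4) (i : Fin 8), i ∈ ([0, 6, 7] : List (Fin 8)) → g • D.rep 4 ≠ D.rep i := by
    intro g i hi e
    have := D.ty_four g
    rw [e, D.ty_rep] at this
    exact (show ∀ j : Fin 8, j ∈ ([0, 6, 7] : List (Fin 8)) → ¬(j = 4 ∨ j = 5) by decide) i hi this
  have h14 : ∀ g g' : P4, g • D.rep 1 ≠ g' • D.rep 4 := fun g g' e =>
    h1 (g'⁻¹ * g) 4 (by simp) (by rw [mul_smul, e, inv_smul_smul])
  have hr : ∀ i j : Fin 8, D.rep i = D.rep j → i = j := fun i j e => by
    rw [← D.ty_rep i, e, D.ty_rep]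
  obtain ⟨a, b, c⟩ := D.one_hyp
  obtain ⟨pt, hpt⟩ := D.exists_point_four
  have hsix : ∀ i j : Fin 6, six i • D.rep 1 = six j • D.rep 1 → i = j := fun i j e =>
    six_inj _ _ ((D.six_eq_iff a b c _ _).1 e.symm)
  constructor
  · have hv : ∀ v ∈ vset, ∀ w ∈ vset, v pt = w pt → v = w := by
      exact (show ∀ z : Fin 4, ∀ v ∈ vset, ∀ w ∈ vset, v z = w z → v = w by decide +kernel) pt
    intro i j e
    fin_cases i <;> fin_cases j <;> simp only [all, Fin.isValue, Fin.zero_eta, Fin.mk_one,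
      Fin.reduceFinMk, Matrix.cons_val] at e ⊢ <;> first
      | rfl
      | exact absurd (hr _ _ e) (by decide)
      | exact absurd (hsix _ _ e) (by decide)
      | exact absurd e (h1 _ _ (by simp))
      | exact absurd e.symm (h1 _ _ (by simp))
      | exact absurd e (h4 _ _ (by simp))
      | exact absurd e.symm (h4 _ _ (by simp))
      | exact absurd e (h14 _ _)
      | exact absurd e.symm (h14 _ _)
      | exact absurd (hv _ (by decide) _ (by decide) ((hpt _ _).1 e)) (by decide +kernel)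
  · intro y
    rcases D.ty_cases y with h | h | h | h | h
    · obtain ⟨i, hi⟩ := D.ty_low h
      fin_cases i
      · exact ⟨3, hi⟩
      · exact ⟨4, hi⟩
      · exact ⟨5, hi⟩
      · exact ⟨6, hi⟩
      · exact ⟨7, hi⟩
      · exact ⟨8, hi⟩
    · obtain ⟨v, hv, hvy⟩ := D.ty_high h
      rcases v_pick v hv with rfl | rfl | rfl | rfl
      · exact ⟨9, hvy⟩
      · exact ⟨10, hvy⟩
      · exact ⟨11, hvy⟩
      · exact ⟨12, hvy⟩
    · exact ⟨0, h.symm⟩
    · exact ⟨1, h.symm⟩
    · exact ⟨2, h.symm⟩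

include D in
/-- A subgroup of order six has seven orbits. -/
theorem seven (B : Subgroup P4) (hB : Nat.card B = 6) :
    ∃ Y : Fin 7 → X, (∀ i j, (∃ g ∈ B, g • Y i = Y j) → i = j) ∧ ∀ x, ∃ i, ∃ g ∈ B, g • x = Y i := by
  obtain ⟨a, ha⟩ := exists_point B hB
  obtain ⟨b, hb⟩ := D.exists_point_four
  obtain ⟨o1, o2, o3⟩ := D.one_hyp
  have h1 : ∀ g : P4, D.ty (g • D.rep 1) ∈ ([1, 2, 3] : List (Fin 8)) := fun g => by
    rcases D.ty_one g with h | h | h <;> rw [h] <;> decide
  have h4 : ∀ g : P4, D.ty (g • D.rep 4) ∈ ([4, 5] : List (Fin 8)) := fun g => by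
    rcases D.ty_four g with h | h <;> rw [h] <;> decide
  let Y : Fin 7 → X := ![D.rep 0, D.rep 6, D.rep 7, gIn a • D.rep 1, gOut a • D.rep 1,
    swap b a • D.rep 4, swap b (a + 1) • D.rep 4]
  -- a coarse invariant of the orbit
  let cls : X → Fin 5 := fun y => ![0, 3, 3, 3, 4, 4, 1, 2] (D.ty y)
  have hmid : ∀ i : Fin 8, i ∈ ([1, 2, 3] : List (Fin 8)) → (![0, 3, 3, 3, 4, 4, 1, 2] : Fin 8 → Fin 5) i = 3 := by
    decide
  have hhigh : ∀ i : Fin 8, i ∈ ([4, 5] : List (Fin 8)) → (![0, 3, 3, 3, 4, 4, 1, 2] : Fin 8 → Fin 5) i = 4 := by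
    decide
  have hcls : ∀ (g : P4) (i : Fin 7), cls (g • Y i) = ![0, 1, 2, 3, 3, 4, 4] i := by
    intro g i
    fin_cases i <;> simp only [Y, cls, Fin.isValue, Fin.zero_eta, Fin.mk_one, Fin.reduceFinMk,
      Matrix.cons_val]
    · rw [D.fix_all (by simp) g, D.ty_rep]; rfl
    · rw [D.fix_all (by simp) g, D.ty_rep]; rfl
    · rw [D.fix_all (by simp) g, D.ty_rep]; rfl
    · rw [← mul_smul]; exact hmid _ (h1 _)
    · rw [← mul_smul]; exact hmid _ (h1 _)
    · rw [← mul_smul]; exact hhigh _ (h4 _)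
    · rw [← mul_smul]; exact hhigh _ (h4 _)
  refine ⟨Y, fun i j => ?_, fun x => ?_⟩
  · rintro ⟨g, hg, e⟩
    have e' := hcls g i
    rw [e] at e'
    have e'' := (hcls 1 j).symm
    rw [one_smul, e'] at e''
    have hpair : ∀ i j : Fin 7, (![0, 1, 2, 3, 3, 4, 4] : Fin 7 → Fin 5) j = ![0, 1, 2, 3, 3, 4, 4] i →
        i = j ∨ (i = 3 ∧ j = 4) ∨ (i = 4 ∧ j = 3) ∨ (i = 5 ∧ j = 6) ∨ (i = 6 ∧ j = 5) := by decide
    rcases hpair i j e'' with h | ⟨rfl, rfl⟩ | ⟨rfl, rfl⟩ | ⟨rfl, rfl⟩ | ⟨rfl, rfl⟩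
    · exact h
    · exfalso
      simp only [Y, Matrix.cons_val] at e
      rw [← mul_smul, D.six_eq_iff o1 o2 o3] at e
      exact stab_six_sep a g ((ha g).1 hg) e
    · exfalso
      simp only [Y, Matrix.cons_val] at e
      have e2 : (g⁻¹ * gIn a) • D.rep 1 = gOut a • D.rep 1 := by
        rw [mul_smul, ← e, inv_smul_smul]
      rw [D.six_eq_iff o1 o2 o3] at e2
      refine stab_six_sep a g⁻¹ ?_ e2
      rw [Equiv.Perm.inv_def, Equiv.symm_apply_eq]
      exact ((ha g).1 hg).symm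
    · exfalso
      simp only [Y, Matrix.cons_val] at e
      rw [← mul_smul, hb, Equiv.Perm.mul_apply, swap_apply_left, swap_apply_left, (ha g).1 hg] at e
      exact (show ∀ z : Fin 4, z ≠ z + 1 by decide) a e
    · exfalso
      simp only [Y, Matrix.cons_val] at e
      rw [← mul_smul, hb, Equiv.Perm.mul_apply, swap_apply_left, swap_apply_left] at e
      have := g.injective (e.trans ((ha g).1 hg).symm)
      exact (show ∀ z : Fin 4, z + 1 ≠ z by decide) a this
  · rcases D.ty_cases x with h | h | h | h | h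
    · obtain ⟨i, rfl⟩ := D.ty_low h
      obtain ⟨g, hga, hor⟩ := stab_six_cover a (six i)
      rcases hor with h' | h'
      · exact ⟨3, g, (ha g).2 hga, by
          show g • six i • D.rep 1 = gIn a • D.rep 1
          rw [← mul_smul, D.six_eq_iff o1 o2 o3]; exact h'⟩
      · exact ⟨4, g, (ha g).2 hga, by
          show g • six i • D.rep 1 = gOut a • D.rep 1
          rw [← mul_smul, D.six_eq_iff o1 o2 o3]; exact h'⟩
    · obtain ⟨v, -, rfl⟩ := D.ty_high h
      by_cases hc : v b = a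
      · exact ⟨5, 1, one_mem _, by
          show (1 : P4) • v • D.rep 4 = swap b a • D.rep 4
          rw [one_smul, hb, swap_apply_left, hc]⟩
      · obtain ⟨g, hga, hgc⟩ := stab_four_cover a (v b) hc
        exact ⟨6, g, (ha g).2 hga, by
          show g • v • D.rep 4 = swap b (a + 1) • D.rep 4
          rw [← mul_smul, hb, Equiv.Perm.mul_apply, swap_apply_left, hgc]⟩
    · exact ⟨0, 1, one_mem _, by rw [one_smul]; exact h⟩
    · exact ⟨1, 1, one_mem _, by rw [one_smul]; exact h⟩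
    · exact ⟨2, 1, one_mem _, by rw [one_smul]; exact h⟩

end Typing

end Cfsg.Agent.Omega8Plus
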