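/-
Invariants of the nilpotent part of an element of order three, under similitudes and inversion.
-/
import Cfsg.Agent.Lib.Omega8Plus.Algebra

set_option autoImplicit false

namespace Cfsg.Agent.Omega8Plus

open QuadraticMap Module Cfsg.Agent.Orth Cfsg.Agent.Omega7

variable {V : Type*} [AddCommGroup V] [Module K V] {Q : QuadraticForm K V}

/-- the invariants -/
def KerIm (N : V →ₗ[K] V) : Prop := ∀ z, N z = 0 → ∃ w, z = N w
/-- `N² = 0` -/
def Sq0 (N : V →ₗ[K] V) : Prop := ∀ z, N (N z) = 0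
/-- `N` maps the kernel of `N²` into the image of `N²` -/
def Deep (N : V →ₗ[K] V) : Prop := ∀ z, N (N z) = 0 → ∃ w, N z = N (N w)
/-- the form of `N` takes the value `c` -/
def Takes (Q : QuadraticForm K V) (N : V →ₗ[K] V) (c : K) : Prop := ∃ z, polar Q (N (N z)) z = c
/-- the form of `N` is isotropic -/
def Iso0 (Q : QuadraticForm K V) (N : V →ₗ[K] V) : Prop := ∃ z, N (N z) ≠ 0 ∧ polar Q (N (N z)) z = 0

/-- the type as a function of the six invariants -/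
def tyB (a b c d e f : Bool) : Fin 8 :=
  if a then (if b then 3 else 0)
  else if d && e then (if f then 6 else 7)
  else if c then (if d then 1 else 2)
  else (if d then 4 else 5)

theorem tyB_flip : ∀ a b c d e f : Bool, (a || d || e) = true →
    tyB a b c e d f = ![0, 2, 1, 3, 5, 4, 6, 7] (tyB a b c d e f) := by decide

open Classical in
/-- the type -/
noncomputable def tyN (Q : QuadraticForm K V) (N : V →ₗ[K] V) : Fin 8 :=
  tyB (decide (Sq0 N)) (decide (KerIm N)) (decide (Deep N)) (decide (Takes Q N 1)) (decide (Takes Q N (-1)))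
    (decide (Iso0 Q N))

theorem tyN_congr {N M : V →ₗ[K] V} (h1 : Sq0 N ↔ Sq0 M) (h2 : KerIm N ↔ KerIm M) (h3 : Deep N ↔ Deep M)
    (h4 : Takes Q N 1 ↔ Takes Q M 1) (h5 : Takes Q N (-1) ↔ Takes Q M (-1)) (h6 : Iso0 Q N ↔ Iso0 Q M) :
    tyN Q N = tyN Q M := by
  classical
  unfold tyN
  rw [decide_eq_decide.2 h1, decide_eq_decide.2 h2, decide_eq_decide.2 h3, decide_eq_decide.2 h4,
    decide_eq_decide.2 h5, decide_eq_decide.2 h6]

theorem takes_or (hQ : (polarBilin Q).Nondegenerate) {N : V →ₗ[K] V} (hN : Good Q N) (h : ¬ Sq0 N) :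
    Takes Q N 1 ∨ Takes Q N (-1) := by
  obtain ⟨x, hx⟩ := hN.exists_psi hQ (by simpa [Sq0] using h)
  have hc : ∀ c : K, c ≠ 0 → c = 1 ∨ c = -1 := by decide
  exact (hc _ hx).imp (fun e => ⟨x, e⟩) (fun e => ⟨x, e⟩)

theorem tyN_flip (hQ : (polarBilin Q).Nondegenerate) {N M : V →ₗ[K] V} (hN : Good Q N)
    (h1 : Sq0 M ↔ Sq0 N) (h2 : KerIm M ↔ KerIm N) (h3 : Deep M ↔ Deep N)
    (h4 : Takes Q M 1 ↔ Takes Q N (-1)) (h5 : Takes Q M (-1) ↔ Takes Q N 1) (h6 : Iso0 Q M ↔ Iso0 Q N) :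
    tyN Q M = ![0, 2, 1, 3, 5, 4, 6, 7] (tyN Q N) := by
  classical
  unfold tyN
  rw [decide_eq_decide.2 h1, decide_eq_decide.2 h2, decide_eq_decide.2 h3, decide_eq_decide.2 h4,
    decide_eq_decide.2 h5, decide_eq_decide.2 h6]
  refine tyB_flip _ _ _ _ _ _ ?_
  by_cases a : Sq0 N
  · simp [a]
  · rcases takes_or hQ hN a with b | b <;> simp [b]

section Sim

variable (Φ : V ≃ₗ[K] V) {μ : K} (hΦ : ∀ z, Q (Φ z) = μ * Q z) {N M : V →ₗ[K] V}
  (hM : ∀ z, M (Φ z) = Φ (N z))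
include hM

theorem sim_symm (z : V) : N (Φ.symm z) = Φ.symm (M z) := by
  obtain ⟨y, rfl⟩ := Φ.surjective z
  rw [Φ.symm_apply_apply, hM, Φ.symm_apply_apply]

theorem sq0_sim : Sq0 M ↔ Sq0 N := by
  refine ⟨fun h z => Φ.injective ?_, fun h z => ?_⟩
  · rw [← hM, ← hM, h, map_zero]
  · obtain ⟨y, rfl⟩ := Φ.surjective z
    rw [hM, hM, h, map_zero]

theorem kerIm_sim : KerIm M ↔ KerIm N := by
  refine ⟨fun h z hz => ?_, fun h z hz => ?_⟩
  · obtain ⟨w, hw⟩ := h (Φ z) (by rw [hM, hz, map_zero])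
    exact ⟨Φ.symm w, by rw [sim_symm Φ hM, ← hw, Φ.symm_apply_apply]⟩
  · obtain ⟨y, rfl⟩ := Φ.surjective z
    rw [hM, LinearEquiv.map_eq_zero_iff] at hz
    obtain ⟨w, hw⟩ := h y hz
    exact ⟨Φ w, by rw [hM, ← hw]⟩

theorem deep_sim : Deep M ↔ Deep N := by
  refine ⟨fun h z hz => ?_, fun h z hz => ?_⟩
  · obtain ⟨w, hw⟩ := h (Φ z) (by rw [hM, hM, hz, map_zero])
    refine ⟨Φ.symm w, Φ.injective ?_⟩
    rw [← hM, hw, ← hM, ← hM, Φ.apply_symm_apply]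
  · obtain ⟨y, rfl⟩ := Φ.surjective z
    rw [hM, hM, LinearEquiv.map_eq_zero_iff] at hz
    obtain ⟨w, hw⟩ := h y hz
    exact ⟨Φ w, by rw [hM, hM, hM, hw]⟩

include hΦ

theorem b_sim (x y : V) : polar Q (Φ x) (Φ y) = μ * polar Q x y := by
  simp only [polar, ← map_add, hΦ]; ring

theorem takes_sim (hμ : μ * μ = 1) (c : K) : Takes Q M (μ * c) ↔ Takes Q N c := by
  refine ⟨fun ⟨z, hz⟩ => ?_, fun ⟨z, hz⟩ => ⟨Φ z, by rw [hM, hM, b_sim Φ hΦ hM, hz]⟩⟩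
  obtain ⟨y, rfl⟩ := Φ.surjective z
  rw [hM, hM, b_sim Φ hΦ hM] at hz
  refine ⟨y, ?_⟩
  linear_combination μ * hz + (c - polar Q (N (N y)) y) * hμ

theorem iso0_sim (hμ : μ * μ = 1) : Iso0 Q M ↔ Iso0 Q N := by
  refine ⟨fun ⟨z, hz, hz'⟩ => ?_, fun ⟨z, hz, hz'⟩ => ⟨Φ z, ?_, ?_⟩⟩
  · obtain ⟨y, rfl⟩ := Φ.surjective z
    rw [hM, hM, b_sim Φ hΦ hM] at hz'
    rw [hM, hM, Ne, LinearEquiv.map_eq_zero_iff] at hz
    exact ⟨y, hz, by linear_combination μ * hz' - polar Q (N (N y)) y * hμ⟩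
  · rw [hM, hM, Ne, LinearEquiv.map_eq_zero_iff]; exact hz
  · rw [hM, hM, b_sim Φ hΦ hM, hz', mul_zero]

end Sim

theorem tyN_isometry (Φ : V ≃ₗ[K] V) (hΦ : ∀ z, Q (Φ z) = Q z) {N M : V →ₗ[K] V}
    (hM : ∀ z, M (Φ z) = Φ (N z)) : tyN Q M = tyN Q N := by
  have hq : ∀ z, Q (Φ z) = 1 * Q z := fun z => by rw [one_mul, hΦ]
  have h := takes_sim Φ hq hM (one_mul 1)
  refine tyN_congr (sq0_sim Φ hM) (kerIm_sim Φ hM) (deep_sim Φ hM) ?_ ?_ (iso0_sim Φ hq hM (one_mul 1))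
  · simpa using h 1
  · simpa using h (-1)

theorem tyN_anti (hQ : (polarBilin Q).Nondegenerate) (Φ : V ≃ₗ[K] V) (hΦ : ∀ z, Q (Φ z) = -Q z)
    {N M : V →ₗ[K] V} (hN : Good Q N) (hM : ∀ z, M (Φ z) = Φ (N z)) :
    tyN Q M = ![0, 2, 1, 3, 5, 4, 6, 7] (tyN Q N) := by
  have hq : ∀ z, Q (Φ z) = (-1) * Q z := fun z => by rw [hΦ]; ring
  have hμ : (-1 : K) * -1 = 1 := by decide
  have h := takes_sim Φ hq hM hμ
  refine tyN_flip hQ hN (sq0_sim Φ hM) (kerIm_sim Φ hM) (deep_sim Φ hM) ?_ ?_ (iso0_sim Φ hq hM hμ)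
  · simpa using h (-1)
  · simpa using h 1

/-- inversion -/
theorem tyN_inv {N M : V →ₗ[K] V} (hN : Good Q N) (hM : ∀ z, M z = N (N z) - N z) : tyN Q M = tyN Q N := by
  have hNM : ∀ z, N z = M (M z) - M z := fun z => by
    simp only [hM, map_sub, hN.cube, map_zero]; abel
  have hMM : ∀ z, M (M z) = N (N z) := fun z => by
    simp only [hM, map_sub, hN.cube, map_zero]; abel
  have hker : ∀ z, M z = 0 ↔ N z = 0 := fun z => by
    refine ⟨fun h => ?_, fun h => by rw [hM, h, map_zero, sub_zero]⟩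
    rw [hNM, h, map_zero, sub_zero]
  have hMN : ∀ z, M (-z - N z) = N z := fun z => by
    rw [hM]
    simp only [map_sub, map_neg, hN.cube]; abel
  refine tyN_congr (by simp only [Sq0, hMM]) ⟨fun h z hz => ?_, fun h z hz => ?_⟩
    ⟨fun h z hz => ?_, fun h z hz => ?_⟩ (by simp only [Takes, hMM]) (by simp only [Takes, hMM])
    (by simp only [Iso0, hMM])
  · obtain ⟨w, hw⟩ := h z ((hker z).2 hz)
    exact ⟨N w - w, by rw [hw, hM, ← map_sub]⟩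
  · obtain ⟨w, hw⟩ := h z ((hker z).1 hz)
    exact ⟨-w - N w, by rw [hMN, hw]⟩
  · rw [← hMM] at hz
    obtain ⟨w, hw⟩ := h z hz
    refine ⟨-w, ?_⟩
    rw [hMM] at hz
    rw [hM, hz, zero_sub, hMM] at hw
    rw [map_neg, map_neg, ← hw, neg_neg]
  · rw [hMM] at hz
    obtain ⟨w, hw⟩ := h z hz
    exact ⟨-w, by rw [hM, hz, zero_sub, hMM, map_neg, map_neg, hw]⟩

end Cfsg.Agent.Omega8Plus
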