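/-
The eight types of elements of order three of O⁺(8,3), with representatives.
-/
import Cfsg.Agent.Lib.Omega8Plus.Inv
import Cfsg.Agent.Lib.Orthogonal.OmegaIndex

set_option autoImplicit false
set_option maxRecDepth 4000

namespace Cfsg.Agent.Omega8Plus

open QuadraticMap Module Cfsg.Agent.Orth Cfsg.Agent.Omega7

/-- the space -/
abbrev V8 : Type := Fin 4 ⊕ Fin 4 → K

/-- the form -/
noncomputable abbrev q8 : QuadraticForm K V8 := qPlus K 4

/-- the orthogonal group -/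
noncomputable abbrev O8 : Subgroup (V8 ≃ₗ[K] V8) := oGroup q8

/-- singular basis vectors -/
def e8 (j : Fin 4) : V8 := fun i => if i = Sum.inl j then 1 else 0
/-- their partners -/
def f8 (j : Fin 4) : V8 := fun i => if i = Sum.inr j then 1 else 0

/-- the bilinear form in coordinates -/
def bd8 (z w : V8) : K :=
  (z (.inl 0) * w (.inr 0) + w (.inl 0) * z (.inr 0)) + (z (.inl 1) * w (.inr 1) + w (.inl 1) * z (.inr 1)) +
    (z (.inl 2) * w (.inr 2) + w (.inl 2) * z (.inr 2)) + (z (.inl 3) * w (.inr 3) + w (.inl 3) * z (.inr 3))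

/-- the form in coordinates -/
def qd8 (z : V8) : K :=
  z (.inl 0) * z (.inr 0) + z (.inl 1) * z (.inr 1) + z (.inl 2) * z (.inr 2) + z (.inl 3) * z (.inr 3)

theorem q8_val (z : V8) : q8 z = qd8 z := by
  simp only [q8, coe_qPlus, Cfsg.quadFormPlus, Fin.sum_univ_four, qd8]

theorem polar_q8 (z w : V8) : polar q8 z w = bd8 z w := by
  simp only [polar, q8_val, qd8, bd8, Pi.add_apply]
  ring

theorem q8_nondeg : (polarBilin q8).Nondegenerate := qPlus_nondeg 4

theorem finrank_V8 : finrank K V8 = 8 := by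
  rw [Module.finrank_fintype_fun_eq_card]; rfl

theorem b8 {z w : V8} {c : K} (h : bd8 z w = c) : polar q8 z w = c := by rw [polar_q8, h]

theorem q8c {z : V8} {c : K} (h : qd8 z = c) : q8 z = c := by rw [q8_val, h]

theorem b_e8 (z : V8) (j : Fin 4) : polar q8 z (e8 j) = z (.inr j) := by
  fin_cases j <;> simp [polar_q8, bd8, e8]

theorem b_f8 (z : V8) (j : Fin 4) : polar q8 z (f8 j) = z (.inl j) := by
  fin_cases j <;> simp [polar_q8, bd8, f8]

/-- computable Siegel piece -/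
def sg8 (u y x : V8) : V8 := bd8 x u • y - (bd8 x y + qd8 y * bd8 x u) • u

theorem sg_eq_sg8 (u y x : V8) : sg q8 u y x = sg8 u y x := by
  simp only [sg, sg8, polar_q8, q8_val]

/-- the representatives: `u, y, v, w` -/
def rv : Fin 8 → Fin 4 → V8 :=
  ![![e8 0, e8 1, 0, 0], ![e8 0, e8 1 + f8 1, 0, 0], ![e8 0, e8 1 - f8 1, 0, 0],
    ![e8 0, e8 1, e8 2, e8 3], ![e8 0, e8 1 + f8 1, e8 2, e8 3], ![e8 0, e8 1 - f8 1, e8 2, e8 3],
    ![e8 0, e8 1 + f8 1, e8 2, e8 3 - f8 3], ![e8 0, e8 1 - f8 1, e8 2, e8 3 - f8 3]]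

/-- the norm of `y` -/
def nY : Fin 8 → K := ![0, 1, -1, 0, 1, -1, 1, -1]
/-- the norm of `w` -/
def nW : Fin 8 → K := ![0, 0, 0, 0, 0, 0, -1, -1]

theorem rv_data : ∀ i : Fin 8, qd8 (rv i 0) = 0 ∧ qd8 (rv i 2) = 0 ∧ qd8 (rv i 1) = nY i ∧ qd8 (rv i 3) = nW i ∧
    bd8 (rv i 0) (rv i 1) = 0 ∧ bd8 (rv i 0) (rv i 2) = 0 ∧ bd8 (rv i 0) (rv i 3) = 0 ∧
    bd8 (rv i 1) (rv i 2) = 0 ∧ bd8 (rv i 1) (rv i 3) = 0 ∧ bd8 (rv i 2) (rv i 3) = 0 := by
  decide +kernel

theorem gram_rv (i : Fin 8) : Gram q8 (rv i 0) (rv i 1) (rv i 2) (rv i 3) (nY i) (nW i) := by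
  obtain ⟨a1, a2, a3, a4, a5, a6, a7, a8, a9, a10⟩ := rv_data i
  exact ⟨q8c a1, q8c a2, q8c a3, q8c a4, b8 a5, b8 a6, b8 a7, b8 a8, b8 a9, b8 a10⟩

/-- `g` is the representative of type `i` -/
def IsRep (g : ↥O8) (i : Fin 8) : Prop := Form2 q8 g (rv i 0) (rv i 1) (rv i 2) (rv i 3)

/-- computable nilpotent part of a representative -/
def nd (i : Fin 8) (z : V8) : V8 := sg8 (rv i 0) (rv i 1) z + sg8 (rv i 2) (rv i 3) z

theorem exists_rep (i : Fin 8) : ∃ g : ↥O8, g ^ 3 = 1 ∧ IsRep g i := exists_form2 (gram_rv i)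

variable {g : ↥O8} {i : Fin 8}

theorem IsRep.nl_eq (hg : IsRep g i) (z : V8) : nl g.1 z = nd i z := by
  rw [nl_apply, hg z, sg_eq_sg8, sg_eq_sg8, nd]; abel

theorem IsRep.sq_eq (hg : IsRep g i) (z : V8) :
    nl g.1 (nl g.1 z) = (nY i * polar q8 z (rv i 0)) • rv i 0 + (nW i * polar q8 z (rv i 2)) • rv i 2 := by
  have e : ∀ z, nl g.1 z = sg q8 (rv i 0) (rv i 1) z + sg q8 (rv i 2) (rv i 3) z := fun z => by
    rw [nl_apply, hg z]; abel
  have G := gram_rv i
  rw [e, e, sg_add, sg_add, sg_comp G, sg_comp' G, sg_sq G.qu G.uy, sg_sq G.qv G.vw, G.hy, G.hw]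
  abel

theorem IsRep.psi_eq (hg : IsRep g i) (z : V8) : polar q8 (nl g.1 (nl g.1 z)) z =
    nY i * (polar q8 z (rv i 0) * polar q8 z (rv i 0)) + nW i * (polar q8 z (rv i 2) * polar q8 z (rv i 2)) := by
  rw [hg.sq_eq, b_add_left, b_smul_left, b_smul_left, b_comm (rv i 0), b_comm (rv i 2)]
  ring

theorem IsRep.not_sq0 (hg : IsRep g i) (z : V8) (h : nd i (nd i z) ≠ 0) : ¬ Sq0 (nl g.1) := fun H => by
  have := H z
  rw [hg.nl_eq, hg.nl_eq] at this
  exact h this

theorem IsRep.takes (hg : IsRep g i) (z : V8) {c : K} (h : bd8 (nd i (nd i z)) z = c) :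
    Takes q8 (nl g.1) c := ⟨z, by rw [hg.nl_eq, hg.nl_eq, polar_q8, h]⟩

theorem IsRep.not_takes (hg : IsRep g i) {t : K} (h : ∀ c c' : K, nY i * (c * c) + nW i * (c' * c') ≠ t) :
    ¬ Takes q8 (nl g.1) t := by
  rintro ⟨z, hz⟩
  rw [hg.psi_eq] at hz
  exact h _ _ hz

theorem IsRep.deep (hg : IsRep g i) (hy : bd8 (f8 0) (rv i 0) = 1) (hv : rv i 2 = 0) (hw : rv i 3 = 0)
    (hn : nY i ≠ 0) : Deep (nl g.1) := by
  intro z hz
  rw [hg.sq_eq, hv, smul_zero, add_zero, smul_eq_zero] at hz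
  have hu : rv i 0 ≠ 0 := fun e => by rw [e] at hy; exact absurd hy (by decide)
  have hz0 : polar q8 z (rv i 0) = 0 := (mul_eq_zero.1 (hz.resolve_right hu)).resolve_left hn
  refine ⟨(- polar q8 z (rv i 1) * nY i) • f8 0, ?_⟩
  have hsq : nY i * nY i = 1 := (show ∀ c : K, c ≠ 0 → c * c = 1 by decide) _ hn
  rw [hg.sq_eq, hv, smul_zero, add_zero, b_smul_left, b8 hy, mul_one, nl_apply, hg z]
  simp only [sg, hv, hw, smul_zero, sub_zero, add_zero, hz0, mul_zero, zero_smul]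
  rw [show nY i * (- polar q8 z (rv i 1) * nY i) = - polar q8 z (rv i 1) by
    linear_combination (- polar q8 z (rv i 1)) * hsq]
  module

theorem IsRep.not_deep (hg : IsRep g i) (z : V8) (hz : nd i (nd i z) = 0)
    (j : Fin 4 ⊕ Fin 4) (hu : rv i 0 j = 0) (hw : nW i = 0) (h : nd i z j ≠ 0) : ¬ Deep (nl g.1) := fun H => by
  obtain ⟨w, hw'⟩ := H z (by rw [hg.nl_eq, hg.nl_eq, hz])
  rw [hg.sq_eq, hg.nl_eq, hw, zero_mul, zero_smul, add_zero] at hw'
  have h2 := congrFun hw' j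
  rw [Pi.smul_apply, hu, smul_zero] at h2
  exact h h2

theorem ty0 (hg : IsRep g 0) : tyN q8 (nl g.1) = 0 := by
  classical
  have h1 : Sq0 (nl g.1) := fun z => by rw [hg.sq_eq]; simp [nY, nW]
  have h2 : ¬ KerIm (nl g.1) := fun H => by
    obtain ⟨w, hw⟩ := H (e8 2) (by rw [hg.nl_eq]; decide +kernel)
    have h := congrArg (fun v => polar q8 v (f8 2)) hw
    simp only [nl_apply, hg w, sg, rv, b_add_left, b_sub_left, b_smul_left, Matrix.cons_val,
      b8 (show bd8 (e8 1) (f8 2) = 0 by decide), b8 (show bd8 (e8 0) (f8 2) = 0 by decide),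
      b8 (show bd8 0 (f8 2) = 0 by decide), b8 (show bd8 (e8 2) (f8 2) = 1 by decide)] at h
    simp at h
  unfold tyN
  simp [tyB, h1, h2]

theorem ty3 (hg : IsRep g 3) : tyN q8 (nl g.1) = 3 := by
  classical
  have h1 : Sq0 (nl g.1) := fun z => by rw [hg.sq_eq]; simp [nY, nW]
  have h2 : KerIm (nl g.1) := fun z hz => by
    rw [hg.nl_eq] at hz
    refine ⟨(-(z (.inl 0))) • f8 1 + z (.inl 1) • f8 0 + (-(z (.inl 2))) • f8 3 + z (.inl 3) • f8 2, ?_⟩
    have a0 : z (.inr 1) = 0 := by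
      have h := congrFun hz (.inl 0)
      simp [nd, sg8, rv, bd8, qd8, e8] at h
      exact h
    have a1 : z (.inr 0) = 0 := by
      have h := congrFun hz (.inl 1)
      simp [nd, sg8, rv, bd8, qd8, e8] at h
      exact h
    have a2 : z (.inr 3) = 0 := by
      have h := congrFun hz (.inl 2)
      simp [nd, sg8, rv, bd8, qd8, e8] at h
      exact h
    have a3 : z (.inr 2) = 0 := by
      have h := congrFun hz (.inl 3)
      simp [nd, sg8, rv, bd8, qd8, e8] at h
      exact h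
    rw [hg.nl_eq]
    funext k
    rcases k with k | k <;> fin_cases k <;> simp [nd, sg8, rv, bd8, qd8, e8, f8, a0, a1, a2, a3]
  unfold tyN
  simp [tyB, h1, h2]

theorem ty_rep_eq (hg : IsRep g i) : tyN q8 (nl g.1) = i := by
  classical
  have key : ∀ {a c d e f : Prop} [Decidable a] [Decidable c] [Decidable d] [Decidable e] [Decidable f]
      (b : Bool) (r : Fin 8) (_ : ¬ a), (tyB false b (decide c) (decide d) (decide e) (decide f) = r) →
      tyB (decide a) b (decide c) (decide d) (decide e) (decide f) = r := by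
    intro a c d e f _ _ _ _ _ b r ha h
    rwa [decide_eq_false ha]
  fin_cases i
  · exact ty0 hg
  · refine key _ _ (hg.not_sq0 (f8 0) (by decide +kernel)) ?_
    simp [tyB, hg.deep (by decide +kernel) rfl rfl (by decide), hg.takes (f8 0) (c := 1) (by decide +kernel),
      hg.not_takes (t := -1) (by decide +kernel)]
  · refine key _ _ (hg.not_sq0 (f8 0) (by decide +kernel)) ?_
    simp [tyB, hg.deep (by decide +kernel) rfl rfl (by decide), hg.not_takes (t := 1) (by decide +kernel)]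
  · exact ty3 hg
  · refine key _ _ (hg.not_sq0 (f8 0) (by decide +kernel)) ?_
    simp [tyB, hg.not_deep (f8 2) (by decide +kernel) (.inl 3) (by decide +kernel) rfl (by decide +kernel),
      hg.takes (f8 0) (c := 1) (by decide +kernel), hg.not_takes (t := -1) (by decide +kernel)]
  · refine key _ _ (hg.not_sq0 (f8 0) (by decide +kernel)) ?_
    simp [tyB, hg.not_deep (f8 2) (by decide +kernel) (.inl 3) (by decide +kernel) rfl (by decide +kernel),
      hg.not_takes (t := 1) (by decide +kernel)]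
  · refine key _ _ (hg.not_sq0 (f8 0) (by decide +kernel)) ?_
    have h5 : Iso0 q8 (nl g.1) := ⟨f8 0 + f8 2, by rw [hg.nl_eq, hg.nl_eq]; decide +kernel,
      by rw [hg.nl_eq, hg.nl_eq, polar_q8]; decide +kernel⟩
    simp [tyB, hg.takes (f8 0) (c := 1) (by decide +kernel), hg.takes (f8 2) (c := -1) (by decide +kernel), h5]
  · refine key _ _ (hg.not_sq0 (f8 0) (by decide +kernel)) ?_
    have h5 : ¬ Iso0 q8 (nl g.1) := by
      rintro ⟨z, hz, hz'⟩
      rw [hg.psi_eq] at hz'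
      rw [hg.sq_eq] at hz
      have h0 : ∀ a c : K, nY 7 * (a * a) + nW 7 * (c * c) = 0 → a = 0 ∧ c = 0 := by decide +kernel
      obtain ⟨e, e'⟩ := h0 _ _ hz'
      rw [e, e'] at hz
      simp at hz
    simp [tyB, hg.takes (f8 0 + f8 2) (c := 1) (by decide +kernel), hg.takes (f8 0) (c := -1) (by decide +kernel),
      h5]

theorem rv_li2 : ∀ i ∈ ([0, 1, 2] : List (Fin 8)), ∀ r s : K, r • rv i 0 + s • rv i 1 = 0 → r = 0 ∧ s = 0 := by
  decide +kernel

theorem rv_li4 : ∀ i ∈ ([3, 4, 5, 6, 7] : List (Fin 8)), ∀ r s t p : K,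
    r • rv i 0 + s • rv i 1 + t • rv i 2 + p • rv i 3 = 0 → r = 0 ∧ s = 0 ∧ t = 0 ∧ p = 0 := by
  decide +kernel

theorem rv_single : ∀ i ∈ ([0, 1, 2] : List (Fin 8)), rv i 2 = 0 ∧ rv i 3 = 0 := by decide +kernel

/-- every element of order three is conjugate in O⁺(8,3) to a representative -/
theorem complete (g : ↥O8) (h3 : g ^ 3 = 1) (h1 : g ≠ 1) :
    ∃ i, ∀ T : ↥O8, IsRep T i → ∃ k : ↥O8, k * g * k⁻¹ = T := by
  have hggg : ∀ z, g.1 (g.1 (g.1 z)) = z := fun z => by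
    have h := LinearEquiv.congr_fun (congrArg Subtype.val h3) z
    rw [pow_three'] at h
    exact h
  have hne : ∃ z, nl g.1 z ≠ 0 := by
    by_contra h
    simp only [not_exists, not_not] at h
    exact h1 (Subtype.ext (LinearEquiv.ext fun z => sub_eq_zero.1 (h z)))
  rcases classify q8_nondeg finrank_V8 (good_of g.1 g.2 hggg) hne with
    ⟨u, y, hu, huy, li, hN⟩ | ⟨u, y, v, w, qy, qw, hcase, G, li, hN⟩
  · have hc : ∀ c : K, c = 0 ∨ c = 1 ∨ c = -1 := by decide
    obtain ⟨i, hi, hq⟩ : ∃ i ∈ ([0, 1, 2] : List (Fin 8)), nY i = q8 y := by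
      rcases hc (q8 y) with e | e | e <;> rw [e]
      · exact ⟨0, by simp, rfl⟩
      · exact ⟨1, by simp, rfl⟩
      · exact ⟨2, by simp, rfl⟩
    refine ⟨i, fun T hT => ?_⟩
    obtain ⟨f, hf, hfi⟩ := witt_fam q8_nondeg ![u, y] ![rv i 0, rv i 1] (li_two li)
      (li_two (rv_li2 i hi)) (by
        obtain ⟨a1, -, a3, -, a5, -⟩ := gram_rv i
        intro r s
        fin_cases r <;> fin_cases s
        · show polar q8 u u = polar q8 (rv i 0) (rv i 0)
          rw [b_self, b_self, hu, a1]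
        · show polar q8 u y = polar q8 (rv i 0) (rv i 1)
          rw [huy, a5]
        · show polar q8 y u = polar q8 (rv i 1) (rv i 0)
          rw [b_comm, huy, b_comm, a5]
        · show polar q8 y y = polar q8 (rv i 1) (rv i 1)
          rw [b_self, b_self, a3, hq])
    refine ⟨⟨f, hf⟩, ?_⟩
    have hg : Form2 q8 g u y 0 0 := fun z => by
      rw [← hN, nl_apply]; simp [sg, b_zero_right]
    refine hg.conj fun z => ?_
    show T.1 z = z + (sg q8 (f u) (f y) z + sg q8 (f 0) (f 0) z)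
    rw [show f u = rv i 0 from hfi 0, show f y = rv i 1 from hfi 1, map_zero]
    obtain ⟨e2, e3⟩ := rv_single i hi
    have := hT z
    rw [e2, e3] at this
    exact this
  · obtain ⟨i, hi, hy, hw⟩ : ∃ i ∈ ([3, 4, 5, 6, 7] : List (Fin 8)), nY i = qy ∧ nW i = qw := by
      rcases hcase with ⟨rfl, rfl⟩ | ⟨rfl, rfl⟩ | ⟨rfl, rfl⟩ | ⟨rfl, rfl⟩ | ⟨rfl, rfl⟩
      · exact ⟨3, by simp, rfl, rfl⟩
      · exact ⟨4, by simp, rfl, rfl⟩
      · exact ⟨5, by simp, rfl, rfl⟩
      · exact ⟨6, by simp, rfl, rfl⟩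
      · exact ⟨7, by simp, rfl, rfl⟩
    refine ⟨i, fun T hT => ?_⟩
    obtain ⟨f, hf, hfi⟩ := witt_fam q8_nondeg ![u, y, v, w] ![rv i 0, rv i 1, rv i 2, rv i 3] (li_four li)
      (li_four (rv_li4 i hi)) (by
        obtain ⟨a1, a2, a3, a4, a5, a6, a7, a8, a9, a10⟩ := G
        obtain ⟨c1, c2, c3, c4, c5, c6, c7, c8, c9, c10⟩ := gram_rv i
        intro r s
        fin_cases r <;> fin_cases s <;>
          simp only [Fin.isValue, Fin.zero_eta, Fin.mk_one, Fin.reduceFinMk, Matrix.cons_val] <;> first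
          | rw [b_self, b_self, a1, c1]
          | rw [b_self, b_self, a2, c2]
          | rw [b_self, b_self, a3, c3, hy]
          | rw [b_self, b_self, a4, c4, hw]
          | rw [a5, c5]
          | rw [a6, c6]
          | rw [a7, c7]
          | rw [a8, c8]
          | rw [a9, c9]
          | rw [a10, c10]
          | rw [b_comm, a5, b_comm, c5]
          | rw [b_comm, a6, b_comm, c6]
          | rw [b_comm, a7, b_comm, c7]
          | rw [b_comm, a8, b_comm, c8]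
          | rw [b_comm, a9, b_comm, c9]
          | rw [b_comm, a10, b_comm, c10])
    refine ⟨⟨f, hf⟩, ?_⟩
    have hg : Form2 q8 g u y v w := fun z => by rw [← hN, nl_apply]; abel
    refine hg.conj fun z => ?_
    show T.1 z = z + (sg q8 (f u) (f y) z + sg q8 (f v) (f w) z)
    rw [show f u = rv i 0 from hfi 0, show f y = rv i 1 from hfi 1, show f v = rv i 2 from hfi 2,
      show f w = rv i 3 from hfi 3]
    exact hT z

end Cfsg.Agent.Omega8Plus
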