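import Cfsg.Agent.Lib.Omega8Plus.Cls
import Cfsg.Agent.Lib.Omega8Plus.Space
import Cfsg.Agent.Lib.Omega7.Reps
import Cfsg.Agent.Lib.Orthogonal.POmega
import Cfsg.Agent.Lib.AutPOmega.Outer
import Cfsg.Agent.Lib.AutPOmega.PlusDiag

/-!
Order-three subgroups of `PΩ⁺(8,3)` and elements of order three of the orthogonal group.
-/

set_option autoImplicit false

namespace Cfsg.Agent.Omega8Plus

open QuadraticMap Cfsg.Agent.Orth Cfsg.Agent.Omega7
open Cfsg.Agent.Transvec (mv mv_mul ext_mv)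
open Cfsg.Agent.AutPOmega (gl act semi semi_mk act_conjOm conjOm isPair_iso sm sm_surj scal scal_mv)

/-- the form of the statement -/
abbrev Qp : V8 → K := Cfsg.quadFormPlus 4 K

/-- the simple group -/
abbrev S8 := Cfsg.POmega K Qp

/-- the projection -/
noncomputable abbrev prj : ↥(Cfsg.Omega K Qp) →* S8 := QuotientGroup.mk' (Subgroup.center (Cfsg.Omega K Qp))

/-- linear and matrix isometries -/
noncomputable def isoQ : ↥O8 ≃* ↥(Cfsg.isometryGroup K Qp) :=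
  (isoEquiv q8).symm.trans (MulEquiv.subgroupCongr (by rw [coe_qPlus]))

theorem mv_isoQ (g : ↥O8) (x : V8) : mv ((isoQ g : ↥(Cfsg.isometryGroup K Qp)) : GL _ K) x = g.1 x := by
  obtain ⟨A, rfl⟩ := (isoEquiv q8).surjective g
  show mv ((((isoEquiv q8).symm (isoEquiv q8 A)) : _) : GL _ K) x = _
  rw [MulEquiv.symm_apply_apply]
  rfl

theorem finite_V8equiv : Finite (V8 ≃ₗ[K] V8) := Finite.of_injective _ DFunLike.coe_injective

attribute [local instance] finite_V8equiv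

/-- the spinor character -/
structure Spin8 (χ : ↥O8 →* SpinVal K) : Prop where
  refl : ∀ (r : ↥O8) (v : V8), IsRefl r.1 q8 v → χ r = reflVal q8 v
  ker : χ.ker = commutator ↥O8

theorem exists_spin8 : ∃ χ : ↥O8 →* SpinVal K, Spin8 χ := by
  have h : Fintype.card K ≠ 2 ∨ Module.finrank K V8 ≠ 4 := Or.inl (by decide)
  obtain ⟨χ, hχ⟩ := exists_spinor (Q := q8) q8_nondeg h
  exact ⟨χ, hχ, (spinor_spec q8_nondeg (by rw [finrank_V8]; norm_num) h χ hχ).1⟩

/-- the outer automorphism of an isometry -/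
noncomputable def rho : ↥O8 →* Cfsg.Out S8 :=
  (QuotientGroup.mk' (Cfsg.Inn S8)).comp
    ((AutPOmega.conjHom (Cfsg.isometryGroup K Qp) le_rfl).comp isoQ.toMonoidHom)

variable {χ : ↥O8 →* SpinVal K} (hχ : Spin8 χ)
include hχ

theorem Spin8.mem_omega_iff (g : ↥O8) : isoQ g ∈ Cfsg.Omega K Qp ↔ χ g = 1 := by
  rw [← MonoidHom.mem_ker, hχ.ker]
  have hmap : (commutator ↥O8).map isoQ.toMonoidHom = commutator ↥(Cfsg.isometryGroup K Qp) := by
    rw [commutator_def, commutator_def, Subgroup.map_commutator,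
      Subgroup.map_top_of_surjective _ isoQ.surjective]
  show isoQ g ∈ commutator _ ↔ _
  rw [← hmap]
  exact Subgroup.mem_map_iff_mem isoQ.injective

theorem Spin8.cube {g : ↥O8} (h : g ^ 3 = 1) : χ g = 1 := by
  have h1 : χ g ^ 3 = 1 := by rw [← map_pow, h, map_one]
  rwa [pow_succ, pow_two, spin_sq, one_mul] at h1

/-- the element of `Ω` -/
noncomputable def Spin8.om (g : ↥O8) (h : χ g = 1) : ↥(Cfsg.Omega K Qp) := ⟨isoQ g, (hχ.mem_omega_iff g).2 h⟩

theorem Spin8.act_om (g : ↥O8) (h : χ g = 1) (x : V8) : act (hχ.om g h) x = g.1 x := mv_isoQ g x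

theorem Spin8.exists_om (A : ↥(Cfsg.Omega K Qp)) :
    ∃ (g : ↥O8) (h : χ g = 1), hχ.om g h = A := by
  refine ⟨isoQ.symm A.1, (hχ.mem_omega_iff _).1 (by rw [MulEquiv.apply_symm_apply]; exact A.2), ?_⟩
  exact Subtype.ext (isoQ.apply_symm_apply _)

omit hχ in
theorem geo8 : Geo.IsNondegenerateQuadraticForm Qp := AutPOmega.geo_plus 4

omit hχ in
theorem seven8 : 7 ≤ Fintype.card (Fin 4 ⊕ Fin 4) := by simp

/-- equal images of elements of order three -/
theorem Spin8.om_inj {g h : ↥O8} (hg : g ^ 3 = 1) (hh : h ^ 3 = 1)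
    (e : prj (hχ.om g (hχ.cube hg)) = prj (hχ.om h (hχ.cube hh))) : g = h := by
  rw [QuotientGroup.mk'_eq_mk'] at e
  obtain ⟨z, hz, e⟩ := e
  obtain ⟨c, hc⟩ := (AutPOmega.mem_center_iff geo8 seven8 z).1 hz
  have key : ∀ x, h.1 x = c • g.1 x := fun x => by
    rw [← hχ.act_om h (hχ.cube hh), ← e, AutPOmega.act_mul, hc, AutPOmega.act_smul, hχ.act_om]
  have g3 : ∀ x, g.1 (g.1 (g.1 x)) = x := fun x => by
    have := LinearEquiv.congr_fun (congrArg Subtype.val hg) x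
    rw [pow_three'] at this
    exact this
  have h3 : ∀ x, h.1 (h.1 (h.1 x)) = x := fun x => by
    have := LinearEquiv.congr_fun (congrArg Subtype.val hh) x
    rw [pow_three'] at this
    exact this
  have hc1 : c = 1 := by
    have h1 := h3 (e8 0)
    simp only [key, map_smul, g3] at h1
    have h2 := congrFun h1 (.inl 0)
    simp [e8] at h2
    have : ∀ c : K, c * (c * c) = 1 → c = 1 := by decide
    exact this c (by linear_combination h2)
  exact Subtype.ext (LinearEquiv.ext fun x => by rw [key, hc1, one_smul])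

/-- an element of order three -/
abbrev El3 := {g : ↥O8 // g ^ 3 = 1 ∧ g ≠ 1}

theorem Spin8.prj_ne_one (g : El3) : prj (hχ.om g.1 (hχ.cube g.2.1)) ≠ 1 := fun h => by
  refine g.2.2 (hχ.om_inj g.2.1 (one_pow 3) (h.trans ?_))
  rw [show hχ.om (1 : ↥O8) (hχ.cube (one_pow 3)) = 1 from Subtype.ext (map_one isoQ), map_one]

theorem Spin8.prj_cube {g : ↥O8} (hg : g ^ 3 = 1) : prj (hχ.om g (hχ.cube hg)) ^ 3 = 1 := by
  rw [← map_pow, show hχ.om g (hχ.cube hg) ^ 3 = 1 from Subtype.ext (by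
    show isoQ g ^ 3 = 1
    rw [← map_pow, hg, map_one]), map_one]

theorem Spin8.card_zpowers (g : El3) : Nat.card (Subgroup.zpowers (prj (hχ.om g.1 (hχ.cube g.2.1)))) = 3 := by
  haveI : Fact (Nat.Prime 3) := ⟨Nat.prime_three⟩
  rw [Nat.card_zpowers, orderOf_eq_prime (hχ.prj_cube g.2.1) (hχ.prj_ne_one g)]

/-- the class of an element of order three -/
noncomputable def Spin8.cl (g : El3) : Cl S8 3 := mkCl _ (hχ.card_zpowers g)

theorem Spin8.cl_surjective (c : Cl S8 3) : ∃ g : El3, hχ.cl g = c := by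
  obtain ⟨Y, hY, rfl⟩ := exists_mkCl c
  have he8 : e8 0 ≠ (0 : V8) := by decide
  have hpow4 : ∀ t : K, t ≠ 0 → t ^ 4 = 1 := by decide
  haveI : Fact (Nat.Prime 3) := ⟨Nat.prime_three⟩
  haveI : Finite Y := Nat.finite_of_card_ne_zero (by omega)
  haveI : Nontrivial Y := Finite.one_lt_card_iff_nontrivial.1 (by omega)
  obtain ⟨x, hx⟩ := exists_ne (1 : Y)
  have hxY : Subgroup.zpowers (x : S8) = Y := by
    have := zpowers_eq_top_of_prime_card hY hx
    have h2 := congrArg (Subgroup.map Y.subtype) this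
    rwa [MonoidHom.map_zpowers, ← MonoidHom.range_eq_map, Y.range_subtype] at h2
  have hx3 : (x : S8) ^ 3 = 1 := by
    have h' : x ^ Nat.card Y = 1 := pow_card_eq_one'
    rw [hY] at h'
    rw [← Subgroup.coe_pow, h', Subgroup.coe_one]
  obtain ⟨A, hA⟩ := QuotientGroup.mk'_surjective (Subgroup.center (Cfsg.Omega K Qp)) (x : S8)
  have hA3 : A ^ 3 ∈ Subgroup.center (Cfsg.Omega K Qp) := by
    rw [← QuotientGroup.eq_one_iff, ← QuotientGroup.mk'_apply, map_pow, hA, hx3]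
  obtain ⟨c, hc⟩ := (AutPOmega.mem_center_iff geo8 seven8 _).1 hA3
  have hc0 : c ≠ 0 := fun h => by
    have h1 := hc (e8 0)
    rw [h, zero_smul] at h1
    exact AutPOmega.act_ne_zero (A ^ 3) he8 h1
  have hA12 : (A ^ 4) ^ 3 = 1 := by
    rw [← pow_mul, show 4 * 3 = 3 * 4 from rfl, pow_mul]
    refine AutPOmega.ext_act fun z => ?_
    rw [AutPOmega.act_one, AutPOmega.act_pow_scalar hc]
    rw [hpow4 c hc0, one_smul]
  obtain ⟨g, hg, hgA⟩ := hχ.exists_om (A ^ 4)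
  have hg3 : g ^ 3 = 1 := by
    refine isoQ.injective ?_
    rw [map_pow, map_one]
    have := congrArg Subtype.val hA12
    rw [← hgA] at this
    exact this
  have hprj : prj (hχ.om g (hχ.cube hg3)) = (x : S8) := by
    rw [show hχ.om g (hχ.cube hg3) = A ^ 4 from hgA]
    show QuotientGroup.mk' _ (A ^ 4) = _
    rw [map_pow, hA, pow_succ, hx3, one_mul]
  have hg1 : g ≠ 1 := fun h => hx (Subtype.ext (by
    rw [← hprj]
    subst h
    rw [show hχ.om (1 : ↥O8) _ = 1 from Subtype.ext (map_one isoQ), map_one]; rfl))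
  refine ⟨⟨g, hg3, hg1⟩, mkCl_eq_iff.2 ⟨1, ?_⟩⟩
  rw [← hxY, ← hprj]
  ext z; simp

theorem Spin8.cl_eq {g h : El3} (e : hχ.cl g = hχ.cl h) :
    ∃ k : ↥O8, k * g.1 * k⁻¹ = h.1 ∨ k * g.1 * k⁻¹ = h.1⁻¹ := by
  obtain ⟨u, hu⟩ := mkCl_eq_iff.1 e
  rw [MonoidHom.map_zpowers] at hu
  obtain ⟨A, rfl⟩ := QuotientGroup.mk'_surjective (Subgroup.center (Cfsg.Omega K Qp)) u
  obtain ⟨k, hk, rfl⟩ := hχ.exists_om A
  refine ⟨k, ?_⟩
  have hc3 : (k * g.1 * k⁻¹) ^ 3 = 1 := by rw [conj_pow, g.2.1, mul_one, mul_inv_cancel]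
  have he : prj (hχ.om (k * g.1 * k⁻¹) (hχ.cube hc3)) =
      (MulAut.conj (prj (hχ.om k hk))).toMonoidHom (prj (hχ.om g.1 (hχ.cube g.2.1))) := by
    show _ = prj (hχ.om k hk) * _ * (prj (hχ.om k hk))⁻¹
    rw [← map_inv prj, ← map_mul, ← map_mul]
    exact congrArg prj (Subtype.ext (show isoQ (k * g.1 * k⁻¹) = isoQ k * isoQ g.1 * (isoQ k)⁻¹ by
      rw [map_mul, map_mul, map_inv]))
  rw [← he] at hu
  have hm : prj (hχ.om (k * g.1 * k⁻¹) (hχ.cube hc3)) ∈ Subgroup.zpowers (prj (hχ.om h.1 (hχ.cube h.2.1))) :=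
    hu ▸ Subgroup.mem_zpowers _
  obtain ⟨n, hn⟩ := Subgroup.mem_zpowers_iff.1 hm
  have hmod : prj (hχ.om h.1 (hχ.cube h.2.1)) ^ n = prj (hχ.om h.1 (hχ.cube h.2.1)) ^ (n % 3) := by
    conv_lhs => rw [← Int.emod_add_mul_ediv n 3]
    rw [zpow_add, zpow_mul, show prj (hχ.om h.1 (hχ.cube h.2.1)) ^ (3 : ℤ) = 1 from by
      exact_mod_cast hχ.prj_cube h.2.1, one_zpow, mul_one]
  rw [hmod] at hn
  rcases (by omega : n % 3 = 0 ∨ n % 3 = 1 ∨ n % 3 = 2) with h0 | h0 | h0 <;> rw [h0] at hn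
  · exfalso
    rw [zpow_zero] at hn
    refine hχ.prj_ne_one ⟨k * g.1 * k⁻¹, hc3, fun h1 => g.2.2 ?_⟩ hn.symm
    rwa [mul_inv_eq_one, mul_eq_left] at h1
  · rw [zpow_one] at hn
    exact Or.inl (hχ.om_inj hc3 h.2.1 hn.symm)
  · right
    refine hχ.om_inj hc3 (by rw [inv_pow, h.2.1, inv_one]) ?_
    rw [← hn, show hχ.om h.1⁻¹ _ = (hχ.om h.1 (hχ.cube h.2.1))⁻¹ from Subtype.ext (map_inv isoQ _), map_inv]
    refine eq_inv_of_mul_eq_one_left ?_
    rw [← zpow_add_one]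
    exact_mod_cast hχ.prj_cube h.2.1

theorem Spin8.semi_cl {θ : GL (Fin 4 ⊕ Fin 4) K} (hθ : Cfsg.IsSemisimilarityPair Qp θ 1) (g h : El3)
    (e : ∀ x, h.1.1 (mv θ x) = mv θ (g.1.1 x)) :
    outPerm (QuotientGroup.mk' (Cfsg.Inn S8) (semi θ 1 hθ)) (hχ.cl g) = hχ.cl h := by
  rw [outPerm_mk]
  refine mkCl_eq_iff.2 ⟨1, ?_⟩
  rw [MonoidHom.map_zpowers, MonoidHom.map_zpowers]
  congr 1
  show (1 : S8) * semi θ 1 hθ (prj _) * (1 : S8)⁻¹ = prj _
  rw [one_mul, inv_one, mul_one, semi_mk]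
  refine congrArg prj (AutPOmega.ext_act fun x => ?_)
  obtain ⟨y, rfl⟩ := sm_surj θ 1 x
  rw [act_conjOm, hχ.act_om, hχ.act_om]
  exact (e y).symm

theorem Spin8.rho_cl (k : ↥O8) (g h : El3) (e : k * g.1 * k⁻¹ = h.1) :
    outPerm (rho k) (hχ.cl g) = hχ.cl h := by
  refine hχ.semi_cl (isPair_iso (isoQ k).2) g h fun x => ?_
  rw [mv_isoQ, mv_isoQ, ← e]
  show k.1 (g.1.1 (k.1.symm (k.1 x))) = _
  rw [LinearEquiv.symm_apply_apply]

theorem Spin8.rho_eq_one {k : ↥O8} (hk : χ k = 1) : rho k = 1 := by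
  refine (QuotientGroup.eq_one_iff _).2 ⟨prj (hχ.om k hk), ?_⟩
  rw [AutPOmega.inner_eq_semi]
  rfl

end Cfsg.Agent.Omega8Plus
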