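import Cfsg.Agent.Lib.Omega8Plus.Comb
import Cfsg.Agent.Lib.Omega8Plus.Lift
import Cfsg.Agent.Lib.AutPOmega.D4Out
import Cfsg.Agent.Lib.AutBalance.FieldBase

/-!
The outer automorphisms of `PΩ⁺(8,3)` on its classes of subgroups of order three.
-/

set_option autoImplicit false

namespace Cfsg.Agent.Omega8Plus

open QuadraticMap Cfsg.Agent.Orth Cfsg.Agent.Omega7
open Cfsg.Agent.Transvec (mv mv_mul ext_mv)
open Cfsg.Agent.AutPOmega (semi scal scal_mv isPair_iso)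

/-! ### placing three involutions of `S₄` -/

theorem invol_cases : ∀ x : P4, x * x = 1 → x ∈ vset ∨ ∃ g : P4, g * er * g⁻¹ = x := by decide +kernel

set_option synthInstance.maxSize 2000 in
set_option synthInstance.maxHeartbeats 100000 in
theorem vset_gen : ∀ a ∈ vset, ∀ b ∈ vset, a ≠ 1 → b ≠ 1 → a ≠ b →
    ∀ v ∈ vset, v = 1 ∨ v = a ∨ v = b ∨ v = a * b := by decide +kernel

set_option synthInstance.maxSize 2000 in
set_option synthInstance.maxHeartbeats 100000 in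
theorem place : ∀ a ∈ vset, ∀ b ∈ vset, a ≠ 1 → b ≠ 1 → a ≠ b → ∀ c : P4, c * c = 1 → c ∉ vset →
    c * a = a * c → ∃ g : P4, g * a * g⁻¹ = es ∧ g * b * g⁻¹ = el ∧ g * c * g⁻¹ = er := by decide +kernel

theorem align {O : Type*} [Group O] (e0 : O ≃* P4) (M : Subgroup O) [M.Normal] (a b c : O)
    (ha : a ∈ M) (hb : b ∈ M) (hc : c ∉ M) (a2 : a * a = 1) (b2 : b * b = 1) (c2 : c * c = 1)
    (ac : c * a = a * c) (a1 : a ≠ 1) (b1 : b ≠ 1) (ab : a ≠ b) :
    ∃ e : O ≃* P4, e a = es ∧ e b = el ∧ e c = er := by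
  set N : Subgroup P4 := M.map e0.toMonoidHom
  haveI : N.Normal := Subgroup.Normal.map inferInstance _ e0.surjective
  have hmem : ∀ x, e0 x ∈ N → x ∈ M := fun x h => by
    obtain ⟨y, hy, e⟩ := h
    rwa [← e0.injective e]
  have hV : ∀ x, x ∈ M → x * x = 1 → e0 x ∈ vset := by
    intro x hx hxx
    rcases invol_cases (e0 x) (by rw [← map_mul, hxx, map_one]) with h | ⟨g, hg⟩
    · exact h
    exfalso
    have her : er ∈ N := by
      have h := (inferInstance : N.Normal).conj_mem _ (Subgroup.mem_map_of_mem e0.toMonoidHom hx) g⁻¹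
      rw [show e0.toMonoidHom x = g * er * g⁻¹ from hg.symm] at h
      simpa [mul_assoc] using h
    apply hc
    refine hmem c ?_
    induction e0 c using Equiv.Perm.swap_induction_on with
    | one => exact one_mem _
    | swap_mul f p q hpq ih =>
      refine mul_mem ?_ ih
      obtain ⟨d, hd⟩ := swap_conj p q hpq
      rw [← hd]
      exact (inferInstance : N.Normal).conj_mem _ her d
  have hA := hV a ha a2
  have hB := hV b hb b2
  have n1 : ∀ {x : O}, x ≠ 1 → e0 x ≠ 1 := fun h e => h (e0.injective (e.trans (map_one _).symm))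
  have hC : e0 c ∉ vset := fun h => by
    apply hc
    rcases vset_gen _ hA _ hB (n1 a1) (n1 b1) (fun e => ab (e0.injective e)) _ h with e | e | e | e
    · rw [e0.injective (e.trans (map_one _).symm)]; exact one_mem _
    · rw [e0.injective e]; exact ha
    · rw [e0.injective e]; exact hb
    · rw [e0.injective (e.trans (map_mul _ _ _).symm)]; exact mul_mem ha hb
  obtain ⟨g, g1, g2, g3⟩ := place _ hA _ hB (n1 a1) (n1 b1) (fun e => ab (e0.injective e)) (e0 c)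
    (by rw [← map_mul, c2, map_one]) hC (by rw [← map_mul, ← map_mul, ac])
  exact ⟨e0.trans (MulAut.conj g), g1, g2, g3⟩

/-- the action of `S₄` through an identification with the outer automorphisms -/
@[reducible] noncomputable def actP (e : Cfsg.Out S8 ≃* P4) : MulAction P4 (Cl S8 3) :=
  MulAction.compHom (Cl S8 3) ((outPerm (G := S8) (n := 3)).comp e.symm.toMonoidHom)

/-- the orthogonal vectors whose reflections fix the representatives: first a vector of norm `1` -/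
def fixP : Fin 8 → V8 :=
  ![e8 2 + f8 2, e8 2 + f8 2, e8 2 + f8 2, 0, 0, 0, e8 3 + f8 3, e8 1 + f8 1]

/-- and one of norm `-1` -/
def fixM : Fin 8 → V8 :=
  ![e8 2 - f8 2, e8 2 - f8 2, e8 2 - f8 2, 0, e8 1 - f8 1, 0, e8 1 - f8 1, e8 1 + f8 1 + (e8 3 + f8 3)]

theorem fix_data : ∀ i : Fin 8,
    (i ∈ ([0, 1, 2, 6, 7] : List (Fin 8)) → qd8 (fixP i) = 1 ∧ ∀ j, bd8 (rv i j) (fixP i) = 0) ∧
    (i ∈ ([0, 1, 2, 4, 6, 7] : List (Fin 8)) → qd8 (fixM i) = -1 ∧ ∀ j, bd8 (rv i j) (fixM i) = 0) := by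
  decide +kernel

attribute [local instance] finite_V8equiv

theorem neg_mem_O8 : ∃ h : ↥O8, ∀ x, h.1 (h.1 x) = -x := by
  let f : V8 →ₗ[K] V8 :=
    { toFun := fun z => Sum.elim ![-z (.inl 1), z (.inl 0), -z (.inl 3), z (.inl 2)]
        ![-z (.inr 1), z (.inr 0), -z (.inr 3), z (.inr 2)]
      map_add' := fun x y => by funext k; rcases k with k | k <;> fin_cases k <;> simp [add_comm]
      map_smul' := fun c x => by funext k; rcases k with k | k <;> fin_cases k <;> simp }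
  have hff : ∀ z, f (f z) = -z := fun z => by funext k; rcases k with k | k <;> fin_cases k <;> simp [f]
  let e : V8 ≃ₗ[K] V8 := LinearEquiv.ofLinear f (-f) (LinearMap.ext fun z => by simp [hff])
    (LinearMap.ext fun z => by simp [hff])
  refine ⟨⟨e, fun z => ?_⟩, fun z => hff z⟩
  show q8 (f z) = q8 z
  rw [q8_val, q8_val]
  simp [f, qd8]
  ring

variable {χ : ↥O8 →* SpinVal K} (hχ : Spin8 χ)
include hχ

theorem Spin8.rho_congr {x y : ↥O8} (h : χ x = χ y) : rho x = rho y := by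
  have := hχ.rho_eq_one (k := x * y⁻¹) (by rw [map_mul, map_inv, h, mul_inv_cancel])
  rwa [map_mul, map_inv, mul_inv_eq_one] at this

theorem Spin8.rho_ker {k : ↥O8} (h : rho k = 1) : χ k = 1 := by
  obtain ⟨u, hu⟩ := (QuotientGroup.eq_one_iff _).1 h
  obtain ⟨A, rfl⟩ := QuotientGroup.mk'_surjective (Subgroup.center (Cfsg.Omega K Qp)) u
  rw [AutPOmega.inner_eq_semi] at hu
  obtain ⟨-, a, ha⟩ := AutPOmega.semi_eq_semi geo8 seven8 _ _ hu.symm
  obtain ⟨g, hg, rfl⟩ := hχ.exists_om A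
  have hk : ∀ x, k.1 x = (a : K) • g.1 x := fun x => by
    rw [← mv_isoQ k]
    refine (congrArg (fun M => mv M x) ha).trans ?_
    rw [mv_mul, scal_mv]
    exact congrArg ((a : K) • ·) (mv_isoQ g x)
  have hcases : ∀ t : K, t ≠ 0 → t = 1 ∨ t = -1 := by decide
  rcases hcases (a : K) a.ne_zero with e | e
  · rw [show k = g from Subtype.ext (LinearEquiv.ext fun x => by rw [hk, e, one_smul])]
    exact hg
  · obtain ⟨m, hm⟩ := neg_mem_O8
    rw [show k = m * m * g from Subtype.ext (LinearEquiv.ext fun x => by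
      rw [hk, e, neg_one_smul]
      exact (hm _).symm), map_mul, map_mul, hg, spin_sq, mul_one]

theorem Spin8.exists_R (v : V8) (hv : q8 v ≠ 0) :
    ∃ r : ↥O8, χ r = sv 1 (sqc K (q8 v)) ∧ IsRefl r.1 q8 v ∧ ∀ z, polar q8 z v = 0 → r.1 z = z := by
  obtain ⟨r, hr, h⟩ := exists_isRefl hv
  exact ⟨⟨r, hr⟩, hχ.refl ⟨r, hr⟩ v h, h, fun z hz => h.fix hz⟩

omit hχ in
theorem not_pres_refl8 {r : ↥O8} {v : V8} (h : IsRefl r.1 q8 v) :
    ¬ Cfsg.PreservesSingularClasses Qp (((isoQ r : ↥(Cfsg.isometryGroup K Qp)) : GL (Fin 4 ⊕ Fin 4) K) : Matrix (Fin 4 ⊕ Fin 4) (Fin 4 ⊕ Fin 4) K) := by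
  obtain ⟨G, hG, hG'⟩ := Orth.exists_reflection q8 h.1
  have e : r = isoEquiv q8 G := Subtype.ext (h.eq hG')
  subst e
  have hval : ((isoQ (isoEquiv q8 G) : ↥(Cfsg.isometryGroup K Qp)) : GL (Fin 4 ⊕ Fin 4) K) = G.1 :=
    ext_mv fun x => by rw [mv_isoQ]; rfl
  rw [hval]
  have hv : Qp v ≠ 0 := by rw [← show q8 v = Qp v from congrFun (coe_qPlus (F := K) 4) v]; exact h.1
  exact (AutPOmega.presP_refl hv (by rw [hG, coe_qPlus])).2

/-- the similitude of multiplier `-1` -/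
abbrev lam : (Fin 4 → Kˣ) × Kˣ := (1, -1)

/-- its linear map -/
noncomputable abbrev lamE : V8 ≃ₗ[K] V8 := glEquiv (Fin 4 ⊕ Fin 4) K (AutPOmega.diagSim 4 K lam)

/-- its outer automorphism -/
noncomputable abbrev lamOut : Cfsg.Out S8 :=
  QuotientGroup.mk' (Cfsg.Inn S8) (AutPOmega.diagSemi 4 K lam)

/-- the image of the inner-diagonal automorphisms -/
abbrev diagOut : Subgroup (Cfsg.Out S8) :=
  (Cfsg.inndiagPOmegaPlus 4 K).map (QuotientGroup.mk' (Cfsg.Inn S8))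

omit hχ in
theorem diagOut_normal : (diagOut).Normal :=
  Subgroup.Normal.map (AutPOmega.D4.inndiag_normal K) _ (QuotientGroup.mk'_surjective _)

omit hχ in
theorem lamOut_mem : lamOut ∈ diagOut := Subgroup.mem_map_of_mem _ (AutPOmega.diagSemi_mem lam)

omit hχ in
theorem lamOut_sq : lamOut * lamOut = 1 := by
  have h : lam * lam = 1 := by decide
  show QuotientGroup.mk' (Cfsg.Inn S8) _ * QuotientGroup.mk' (Cfsg.Inn S8) _ = 1
  rw [← map_mul, ← map_mul, h, map_one, map_one]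

omit hχ in
theorem q8_lamE (z : V8) : q8 (lamE z) = -q8 z := by
  have h := AutPOmega.quad_diagSim (m := 4) (F := K) lam z
  rw [← coe_qPlus] at h
  show q8 (mv (AutPOmega.diagSim 4 K lam) z) = _
  rw [h, Units.val_neg, Units.val_one, neg_one_mul]

omit hχ in
theorem refl_mul_mem {r r' : ↥O8} {v v' : V8} (h : IsRefl r.1 q8 v) (h' : IsRefl r'.1 q8 v') :
    rho (r * r') ∈ diagOut := by
  refine Subgroup.mem_map_of_mem _ (AutPOmega.mem_inndiag_plus.2 ⟨_, isPair_iso (isoQ (r * r')).2, ?_, rfl⟩)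
  have := (AutPOmega.presP_mul (isPair_iso (isoQ r).2) (isPair_iso (isoQ r').2)).2
    (iff_of_false (not_pres_refl8 h) (not_pres_refl8 h'))
  rw [map_mul]
  exact this

omit hχ in
theorem refl_not_mem {r : ↥O8} {v : V8} (h : IsRefl r.1 q8 v) : rho r ∉ diagOut := by
  rintro ⟨θ, hθ, e⟩
  have hmem : AutPOmega.conjHom (Cfsg.isometryGroup K Qp) le_rfl (isoQ r) ∈ Cfsg.inndiagPOmegaPlus 4 K := by
    have := QuotientGroup.eq.1 e
    have h2 := mul_mem hθ (AutPOmega.inn_le_plus this)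
    rwa [mul_inv_cancel_left] at h2
  rw [AutPOmega.conjHom_apply] at hmem
  obtain ⟨g, hg, hP, e'⟩ := AutPOmega.mem_inndiag_plus.1 hmem
  obtain ⟨-, t, ht⟩ := AutPOmega.semi_eq_semi geo8 seven8 _ _ e'
  refine not_pres_refl8 h ?_
  rw [ht]
  have hs : Cfsg.IsSemisimilarityPair Qp (scal t : GL (Fin 4 ⊕ Fin 4) K) 1 :=
    ⟨t * t, fun v => by
      show Qp (mv (scal t) v) = _
      rw [scal_mv]
      show Qp ((t : K) • v) = ((t * t : Kˣ) : K) * Qp v
      rw [show Qp = ⇑q8 from (coe_qPlus (F := K) 4).symm, q_smul, Units.val_mul]⟩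
  exact (AutPOmega.presP_mul hs hg).2 (iff_of_true (AutPOmega.presP_scal t) hP)

theorem Spin8.rho_sq (k : ↥O8) : rho k * rho k = 1 := by
  rw [← map_mul]
  exact hχ.rho_eq_one (by rw [map_mul, spin_sq])

theorem Spin8.rho_comm (k k' : ↥O8) : rho k * rho k' = rho k' * rho k := by
  rw [← map_mul, ← map_mul]
  exact hχ.rho_congr ((map_mul χ k k').trans ((mul_comm (χ k) (χ k')).trans (map_mul χ k' k).symm))

omit hχ in
theorem cube_apply (g : El3) (z : V8) : g.1.1 (g.1.1 (g.1.1 z)) = z := by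
  have := LinearEquiv.congr_fun (congrArg Subtype.val g.2.1) z
  rw [pow_three'] at this
  exact this

omit hχ in
theorem tyN_conj (k g : ↥O8) : tyN q8 (nl (k * g * k⁻¹).1) = tyN q8 (nl g.1) := by
  refine tyN_isometry k.1 k.2 fun z => ?_
  rw [nl_apply, nl_apply, map_sub]
  show k.1 (g.1 (k.1.symm (k.1 z))) - k.1 z = _
  rw [LinearEquiv.symm_apply_apply]

omit hχ in
theorem tyN_el_inv (h : El3) : tyN q8 (nl (h.1⁻¹).1) = tyN q8 (nl h.1.1) := by
  refine tyN_inv (good_of h.1.1 h.1.2 (cube_apply h)) fun z => ?_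
  have e2 : (h.1⁻¹).1 z = h.1.1 (h.1.1 z) := by
    apply h.1.1.injective
    rw [cube_apply]
    exact h.1.1.apply_symm_apply z
  simp only [nl_apply, map_sub, e2]
  calc h.1.1 (h.1.1 z) - z = h.1.1 (h.1.1 z) - z + ((z + z + z) - (h.1.1 z + h.1.1 z + h.1.1 z)) := by
        rw [three_smul_zero, three_smul_zero, sub_zero, add_zero]
    _ = _ := by abel

/-- the type of a class -/
noncomputable def Spin8.ty (x : Cl S8 3) : Fin 8 := tyN q8 (nl (hχ.cl_surjective x).choose.1.1)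

theorem Spin8.ty_cl (g : El3) : hχ.ty (hχ.cl g) = tyN q8 (nl g.1.1) := by
  unfold Spin8.ty
  obtain ⟨k, hk⟩ := hχ.cl_eq (hχ.cl_surjective (hχ.cl g)).choose_spec
  rcases hk with e | e
  · rw [← e, tyN_conj]
  · rw [← tyN_el_inv g, ← e, tyN_conj]

theorem Spin8.ty_rho (k : ↥O8) (x : Cl S8 3) : hχ.ty (outPerm (rho k) x) = hχ.ty x := by
  obtain ⟨g, rfl⟩ := hχ.cl_surjective x
  have h3 : (k * g.1 * k⁻¹) ^ 3 = 1 := by rw [conj_pow, g.2.1, mul_one, mul_inv_cancel]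
  have h1 : k * g.1 * k⁻¹ ≠ 1 := fun e => g.2.2 (by rwa [mul_inv_eq_one, mul_eq_left] at e)
  rw [hχ.rho_cl k g ⟨_, h3, h1⟩ rfl, hχ.ty_cl, hχ.ty_cl]
  exact tyN_conj k g.1

theorem Spin8.ty_lam (x : Cl S8 3) : hχ.ty (outPerm lamOut x) = flipTy (hχ.ty x) := by
  obtain ⟨g, rfl⟩ := hχ.cl_surjective x
  have hmem : (lamE.symm.trans g.1.1).trans lamE ∈ O8 := fun z => by
    show q8 (lamE (g.1.1 (lamE.symm z))) = q8 z
    rw [q8_lamE, g.1.2, ← q8_lamE, LinearEquiv.apply_symm_apply]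
  let h : ↥O8 := ⟨_, hmem⟩
  have hh : ∀ z, h.1 (lamE z) = lamE (g.1.1 z) := fun z =>
    congrArg (fun w => lamE (g.1.1 w)) (lamE.symm_apply_apply z)
  have h3 : h ^ 3 = 1 := Subtype.ext (LinearEquiv.ext fun z => by
    obtain ⟨y, rfl⟩ := lamE.surjective z
    rw [pow_three']
    show h.1 (h.1 (h.1 (lamE y))) = lamE y
    rw [hh, hh, hh, cube_apply])
  have h1 : h ≠ 1 := fun e => g.2.2 (Subtype.ext (LinearEquiv.ext fun z => lamE.injective (by
    rw [← hh, e]; rfl)))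
  have hcl : outPerm lamOut (hχ.cl g) = hχ.cl ⟨h, h3, h1⟩ :=
    hχ.semi_cl (AutPOmega.pair_diagSim lam) g ⟨h, h3, h1⟩ hh
  rw [hcl, hχ.ty_cl, hχ.ty_cl]
  refine tyN_anti q8_nondeg lamE q8_lamE (good_of g.1.1 g.1.2 (cube_apply g)) fun z => ?_
  rw [nl_apply, nl_apply, hh, map_sub]

theorem Spin8.rho_fix {i : Fin 8} (T : El3) (hT : IsRep T.1 i) {v : V8} (hv : q8 v ≠ 0)
    (hj : ∀ j, bd8 (rv i j) v = 0) {k : ↥O8} (hk : χ k = sv 1 (sqc K (q8 v))) :
    outPerm (rho k) (hχ.cl T) = hχ.cl T := by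
  obtain ⟨r, hr, -, hfix⟩ := hχ.exists_R v hv
  rw [hχ.rho_congr (hk.trans hr.symm)]
  refine hχ.rho_cl r T T (hT.conj ?_)
  intro z
  rw [hfix _ (b8 (hj 0)), hfix _ (b8 (hj 1)), hfix _ (b8 (hj 2)), hfix _ (b8 (hj 3))]
  exact hT z

omit hχ in
theorem exists_el3 (i : Fin 8) : ∃ T : El3, IsRep T.1 i := by
  obtain ⟨T, h3, h⟩ := exists_rep i
  refine ⟨⟨T, h3, fun e => ?_⟩, h⟩
  subst e
  have hz : nd i (f8 0) = 0 := by rw [← h.nl_eq, nl_apply]; exact sub_self _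
  exact (show ∀ j : Fin 8, nd j (f8 0) ≠ 0 by decide +kernel) i hz

omit hχ in
theorem out_equiv_gen {F : Type*} [Field F] [Fintype F] (h2 : (2 : F) ≠ 0) [Subsingleton (F ≃+* F)] :
    Nonempty (Cfsg.Out (Cfsg.POmega F (Cfsg.quadFormPlus 4 F)) ≃* P4) := by
  obtain ⟨E, -⟩ := AutPOmega.D4.exists_bridge F
  obtain ⟨e1⟩ := AutPOmega.D4.out_congr E.symm
  obtain ⟨e2⟩ := AutPOmega.D4.out_odd (F := F) h2
  haveI : Unique (F ≃+* F) := uniqueOfSubsingleton (RingEquiv.refl _)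
  exact ⟨(e1.trans e2).trans MulEquiv.prodUnique⟩

omit hχ in
theorem exists_out_equiv : Nonempty (Cfsg.Out S8 ≃* P4) := by
  haveI : Subsingleton (K ≃+* K) :=
    ⟨fun f g => RingEquiv.toRingHom_injective (Subsingleton.elim _ _)⟩
  exact out_equiv_gen (F := K) (show (2 : K) ≠ 0 by decide)

omit hχ in
theorem vec_data : qd8 (e8 0 + f8 0) = 1 ∧ qd8 (e8 0 - f8 0) = -1 := by decide +kernel

omit hχ in
theorem units_ne : (1 : K) ≠ 0 ∧ (-1 : K) ≠ 0 := by decide

omit hχ in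
theorem list_sub : ∀ i : Fin 8, i ∈ ([0, 1, 2, 6, 7] : List (Fin 8)) → i ∈ ([0, 1, 2, 4, 6, 7] : List (Fin 8)) := by
  decide

theorem Spin8.cover_rho {rp rm : ↥O8} (xp : χ rp = sv 1 1) (xs0 : χ (rp * rm) = sv 0 σ)
    (T : Fin 8 → El3) (hT : ∀ i, IsRep (T i).1 i) (x : Cl S8 3) :
    ∃ o : Cfsg.Out S8, (o = 1 ∨ o = rho rp ∨ o = rho (rp * rm) ∨ o = rho (rp * rm) * rho rp) ∧
      x = outPerm o (hχ.cl (T (hχ.ty x))) := by
  obtain ⟨g, rfl⟩ := hχ.cl_surjective x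
  obtain ⟨i, hi⟩ := complete g.1 g.2.1 g.2.2
  obtain ⟨k, hk⟩ := hi (T i).1 (hT i)
  have hcl : hχ.cl g = outPerm (rho k⁻¹) (hχ.cl (T i)) :=
    (hχ.rho_cl k⁻¹ (T i) g (by rw [← hk]; group)).symm
  have hti : hχ.ty (hχ.cl g) = i := by rw [hcl, hχ.ty_rho, hχ.ty_cl]; exact ty_rep_eq (hT i)
  refine ⟨rho k⁻¹, ?_, by rw [hti]; exact hcl⟩
  rcases spin_cases (χ k⁻¹) with h | h | h | h
  · exact Or.inl (hχ.rho_eq_one h)
  · exact Or.inr (Or.inl (hχ.rho_congr (h.trans xp.symm)))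
  · refine Or.inr (Or.inr (Or.inr ?_))
    rw [← map_mul rho]
    refine hχ.rho_congr ?_
    rw [h, map_mul χ (rp * rm), xs0, xp, sv_mul, mul_one]
    rfl
  · exact Or.inr (Or.inr (Or.inl (hχ.rho_congr (h.trans xs0.symm))))

set_option maxHeartbeats 800000 in
/-- The classes carry a typing. -/
theorem Spin8.exists_typing : ∃ e : Cfsg.Out S8 ≃* P4, Nonempty (@Typing (Cl S8 3) (actP e)) := by
  obtain ⟨one_ne, neg_ne⟩ := units_ne
  obtain ⟨qp, qm⟩ := vec_data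
  obtain ⟨rp, xp, hrp, -⟩ := hχ.exists_R (e8 0 + f8 0) (by rw [q8c qp]; exact one_ne)
  obtain ⟨rm, xm, hrm, -⟩ := hχ.exists_R (e8 0 - f8 0) (by rw [q8c qm]; exact neg_ne)
  rw [q8c qp, sqc_one] at xp
  rw [q8c qm] at xm
  change χ rm = sv 1 σ at xm
  have xs0 : χ (rp * rm) = sv 0 σ := by
    rw [map_mul, xp, xm, sv_mul, one_mul, show (1 : ZMod 2) + 1 = 0 from rfl]
  haveI := diagOut_normal
  choose T hT using exists_el3
  have ty_T : ∀ i, hχ.ty (hχ.cl (T i)) = i := fun i => by rw [hχ.ty_cl]; exact ty_rep_eq (hT i)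
  have fix_c : ∀ i ∈ ([0, 1, 2, 6, 7] : List (Fin 8)),
      outPerm (rho rp) (hχ.cl (T i)) = hχ.cl (T i) := fun i hi => by
    obtain ⟨h1, h2⟩ := (fix_data i).1 hi
    exact hχ.rho_fix (T i) (hT i) (by rw [q8c h1]; exact one_ne) h2 (by rw [q8c h1, sqc_one, xp])
  have fix_m : ∀ i ∈ ([0, 1, 2, 4, 6, 7] : List (Fin 8)),
      outPerm (rho rm) (hχ.cl (T i)) = hχ.cl (T i) := fun i hi => by
    obtain ⟨h1, h2⟩ := (fix_data i).2 hi
    exact hχ.rho_fix (T i) (hT i) (by rw [q8c h1]; exact neg_ne) h2 (by rw [q8c h1]; exact xm)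
  have fix_a : ∀ i ∈ ([0, 1, 2, 6, 7] : List (Fin 8)),
      outPerm (rho (rp * rm)) (hχ.cl (T i)) = hχ.cl (T i) := fun i hi => by
    rw [map_mul, map_mul, Equiv.Perm.mul_apply, fix_m i (list_sub i hi), fix_c i hi]
  have hflip : ¬ ((1 : Fin 8) = flipTy 1) := fun h => absurd (congrArg Fin.val h) (by simp [flipTy])
  have a1 : rho (rp * rm) ≠ 1 := fun e => by
    have := hχ.rho_ker e
    rw [xs0, ← sv_one] at this
    exact σ_ne (sv_inj this).2
  have b1 : lamOut ≠ 1 := fun e => by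
    have h := hχ.ty_lam (hχ.cl (T 1))
    rw [e, map_one, Equiv.Perm.one_apply, ty_T] at h
    exact hflip h
  have ab : rho (rp * rm) ≠ lamOut := fun e => by
    have h := hχ.ty_lam (hχ.cl (T 1))
    rw [← e, fix_a 1 (by simp), ty_T] at h
    exact hflip h
  obtain ⟨e0⟩ := exists_out_equiv
  obtain ⟨e, ea, eb, ec⟩ := align e0 diagOut (rho (rp * rm)) lamOut (rho rp) (refl_mul_mem hrp hrm) lamOut_mem
    (refl_not_mem hrp) (hχ.rho_sq _) lamOut_sq (hχ.rho_sq _) (hχ.rho_comm _ _) a1 b1 ab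
  have ea' : e.symm es = rho (rp * rm) := e.symm_apply_eq.2 ea.symm
  have eb' : e.symm el = lamOut := e.symm_apply_eq.2 eb.symm
  have ec' : e.symm er = rho rp := e.symm_apply_eq.2 ec.symm
  refine ⟨e, ?_⟩
  letI := actP e
  have hact : ∀ (g : P4) (x : Cl S8 3), g • x = outPerm (e.symm g) x := fun g x => rfl
  refine ⟨{ ty := hχ.ty, rep := fun i => hχ.cl (T i), ty_rep := ty_T, ty_es := ?_, ty_er := ?_, ty_el := ?_,
            cover := ?_, single := ?_, half := ?_ }⟩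
  · intro x; rw [hact, ea']; exact hχ.ty_rho _ x
  · intro x; rw [hact, ec']; exact hχ.ty_rho _ x
  · intro x; rw [hact, eb']; exact hχ.ty_lam x
  · intro x
    obtain ⟨o, ho, hx⟩ := hχ.cover_rho xp xs0 T hT x
    rcases ho with rfl | rfl | rfl | rfl
    · exact ⟨1, by simp [hset], by rw [hact, map_one]; exact hx⟩
    · exact ⟨er, by simp [hset], by rw [hact, ec']; exact hx⟩
    · exact ⟨es, by simp [hset], by rw [hact, ea']; exact hx⟩
    · exact ⟨es * er, by simp [hset], by rw [hact, map_mul e.symm, ea', ec']; exact hx⟩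
  · intro i hi
    exact ⟨by rw [hact, ea']; exact fix_a i hi, by rw [hact, ec']; exact fix_c i hi⟩
  · right
    rw [hact, map_mul e.symm, ea', ec', ← map_mul rho, hχ.rho_congr (x := rp * rm * rp) (y := rm)]
    · exact fix_m 4 (by simp)
    · rw [map_mul χ (rp * rm), xs0, xp, xm, sv_mul, mul_one, show (0 : ZMod 2) + 1 = 1 from rfl]

end Cfsg.Agent.Omega8Plus
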